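import Groth.Agent.S7603
import Groth.Agent.S2501
import Groth.Agent.S1536
import Groth.Agent.GrpSchLib.SmoothReduced
import Groth.Agent.SmoothReg.Scheme
import Groth.Prelude.Def_Coh

/-!
# Connected smooth proper schemes over an algebraically closed field
-/

universe u

open CategoryTheory CategoryTheory.Limits AlgebraicGeometry TopologicalSpace

namespace Groth.Agent.CurveCohLib

theorem isIntegral_of_smooth_connected {k : Type u} [Field k] {X : Scheme.{u}} [CompactSpace X] [ConnectedSpace X]
    (f : X ⟶ Spec (CommRingCat.of k)) [Smooth f] : IsIntegral X := by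
  haveI : IsLocallyNoetherian X := LocallyOfFiniteType.isLocallyNoetherian f
  haveI : IsNoetherian X := {}
  haveI : AlgebraicGeometry.IsReduced X := GrpSchLib.isReduced_of_smooth_field f
  haveI : IrreducibleSpace X := S7603.irreducibleSpace_of_isDomain_stalk fun y => by
    haveI := SmoothReg.isRegularLocalRing_stalk_of_mem_smoothLocus f (x := y)
      (by rw [f.smoothLocus_eq_top]; trivial)
    exact RegLoc6.isDomain_of_isRegularLocalRing _
  exact isIntegral_of_irreducibleSpace_of_isReduced X

theorem finrank_h0_eq_one (k : Type u) [Field k] [IsAlgClosed k] (X : Scheme.{u}) [X.Over (Spec (CommRingCat.of k))]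
    [IsProper (X ↘ Spec (CommRingCat.of k))] [Smooth (X ↘ Spec (CommRingCat.of k))] [ConnectedSpace X] :
    Module.finrank k (Coh.HH X (Coh.structureModule X) 0) = 1 := by
  haveI := GrpSchLib.geometricallyReduced_of_smooth (X ↘ Spec (CommRingCat.of k))
  haveI := S2501.result (X ↘ Spec (CommRingCat.of k))
  exact S1536.result k X

end Groth.Agent.CurveCohLib
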