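import Groth.Agent.CurveCohLib.Proper
import Groth.Agent.PureLib.Supported

/-!
# Global sections of a coherent module supported on closed points
-/

universe u

open CategoryTheory CategoryTheory.Limits AlgebraicGeometry TopologicalSpace Opposite

namespace Groth.Agent.CurveCohLib

variable {X : Scheme.{u}} {k : Type u} [Field k] [X.Over (Spec (CommRingCat.of k))]

/-- The stalk of a module over the base field. -/
noncomputable abbrev stalkModuleK (k : Type u) [Field k] [X.Over (Spec (CommRingCat.of k))] (M : X.Modules) (x : X) :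
    Module k (M.presheaf.stalk x) :=
  Module.compHom _ (Curv2.stalkMap k X x)

theorem h0Equiv_smul (M : X.Modules) (a : k) (t : Coh.HH X M 0) :
    (Sheaf.H.equiv₀ (Coh.toAb M) isTerminalTop (a • t) : Γ(M, ⊤)) =
      (show Γ(X, ⊤) from Coh.resTop X (op ⊤) (Coh.toGlobal (X ↘ Spec (CommRingCat.of k)) a)) •
        (show Γ(M, ⊤) from Sheaf.H.equiv₀ (Coh.toAb M) isTerminalTop t) :=
  (Sheaf.H.equiv₀_naturality isTerminalTop (Coh.smulAb M (Coh.toGlobal (X ↘ Spec (CommRingCat.of k)) a)) t).symm

theorem germ_h0Equiv_smul (M : X.Modules) (a : k) (t : Coh.HH X M 0) (x : X) :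
    M.presheaf.germ ⊤ x trivial (Sheaf.H.equiv₀ (Coh.toAb M) isTerminalTop (a • t) : Γ(M, ⊤)) =
      Curv2.stalkMap k X x a • M.presheaf.germ ⊤ x trivial (Sheaf.H.equiv₀ (Coh.toAb M) isTerminalTop t : Γ(M, ⊤)) := by
  rw [h0Equiv_smul]
  refine (QCoh.germ_smul' M (U := ⊤) (hx := (trivial : x ∈ (⊤ : X.Opens))) _ _).trans ?_
  refine congrArg (· • _) ?_
  exact congrArg (X.presheaf.germ ⊤ x trivial) (ConcreteCategory.congr_hom (X.presheaf.map_id (op ⊤)) _)

/-- Global sections are the product of the stalks at the finitely many points of the support. -/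
theorem exists_h0Equiv [IsNoetherian X] {M : X.Modules} (hM : Coh.IsCoh M)
    (h0 : ∀ x ∈ CohB1.support M, IsClosed ({x} : Set X)) (S : Finset X) (hS : CohB1.support M ⊆ S) :
    letI := fun x : X => stalkModuleK k M x
    ∃ e : Coh.HH X M 0 ≃ₗ[k] (∀ x : S, M.presheaf.stalk x.1),
      ∀ t x, e t x = M.presheaf.germ ⊤ x.1 trivial (Sheaf.H.equiv₀ (Coh.toAb M) isTerminalTop t : Γ(M, ⊤)) := by
  classical
  letI := fun x : X => stalkModuleK k M x
  let Φ : Coh.HH X M 0 →ₗ[k] ∀ x : S, M.presheaf.stalk x.1 :=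
    { toFun := fun t x => M.presheaf.germ ⊤ x.1 trivial (Sheaf.H.equiv₀ (Coh.toAb M) isTerminalTop t : Γ(M, ⊤))
      map_add' := fun a b => funext fun x =>
        (congrArg (M.presheaf.germ ⊤ x.1 trivial) (map_add (Sheaf.H.equiv₀ (Coh.toAb M) isTerminalTop) a b)).trans (map_add _ _ _)
      map_smul' := fun a t => funext fun x => germ_h0Equiv_smul M a t x.1 }
  refine ⟨LinearEquiv.ofBijective Φ ⟨fun a b hab => ?_, fun m => ?_⟩, fun t x => rfl⟩
  · apply (Sheaf.H.equiv₀ (Coh.toAb M) isTerminalTop).injective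
    refine TopCat.Presheaf.section_ext (⟨M.presheaf, M.isSheaf⟩ : TopCat.Sheaf Ab X.toTopCat) ⊤ _ _ fun y hy => ?_
    by_cases hyS : y ∈ S
    · exact congrFun hab ⟨y, hyS⟩
    · exact (germ_eq_zero_of_notMem_support _ hy fun h => hyS (hS h)).trans
        (germ_eq_zero_of_notMem_support _ hy fun h => hyS (hS h)).symm
  · have key : ∀ x : S, ∃ s : Γ(M, ⊤), M.presheaf.germ ⊤ x.1 trivial s = m x ∧
        ∀ y, y ≠ x.1 → M.presheaf.germ ⊤ y trivial s = 0 := fun x => by
      by_cases hx : x.1 ∈ CohB1.support M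
      · exact exists_section_single hM h0 hx (m x)
      · exact ⟨0, (map_zero _).trans ((not_not.1 hx : Subsingleton (M.presheaf.stalk x.1)).elim _ _),
          fun y _ => map_zero _⟩
    choose s hs hs0 using key
    refine ⟨(Sheaf.H.equiv₀ (Coh.toAb M) isTerminalTop).symm (∑ x, s x : Γ(M, ⊤)), funext fun x => ?_⟩
    show M.presheaf.germ ⊤ x.1 trivial (Sheaf.H.equiv₀ (Coh.toAb M) isTerminalTop _ : Γ(M, ⊤)) = _
    rw [AddEquiv.apply_symm_apply]
    refine (map_sum (M.presheaf.germ ⊤ x.1 trivial).hom s Finset.univ).trans ?_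
    rw [Finset.sum_eq_single x]
    · exact hs x
    · exact fun b _ hb => hs0 b x.1 fun h => hb (Subtype.ext h.symm)
    · exact fun h => absurd (Finset.mem_univ x) h

theorem isNoetherian' [IsProper (X ↘ Spec (CommRingCat.of k))] : IsNoetherian X :=
  isNoetherian_of_proper (k := k)

/-- The Euler characteristic is the sum of the dimensions of the stalks. -/
theorem euler_eq_sum_stalks [IsProper (X ↘ Spec (CommRingCat.of k))] {M : X.Modules} (hM : Coh.IsCoh M)
    (h0 : ∀ x ∈ CohB1.support M, IsClosed ({x} : Set X)) (S : Finset X) (hS : CohB1.support M ⊆ S) :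
    letI := fun x : X => stalkModuleK k M x
    Curv2.euler k X M = ∑ x ∈ S, (Module.finrank k (M.presheaf.stalk x) : ℤ) ∧
      ∀ x ∈ S, Module.Finite k (M.presheaf.stalk x) := by
  classical
  letI := fun x : X => stalkModuleK k M x
  haveI := isNoetherian' (k := k) (X := X)
  haveI := finite_HH (k := k) hM 0
  obtain ⟨e, -⟩ := exists_h0Equiv (k := k) hM h0 S hS
  haveI : Module.Finite k (∀ x : S, M.presheaf.stalk x.1) := Module.Finite.equiv e
  haveI : ∀ x : S, Module.Finite k (M.presheaf.stalk x.1) := fun x =>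
    Module.Finite.of_surjective (LinearMap.proj x : (∀ x : S, M.presheaf.stalk x.1) →ₗ[k] _)
      fun m => ⟨Pi.single x m, by simp⟩
  refine ⟨?_, fun x hx => this ⟨x, hx⟩⟩
  rw [euler_eq_finrank_zero hM h0, e.finrank_eq, Module.finrank_pi_fintype, Nat.cast_sum,
    ← Finset.sum_coe_sort S]

/-- On an integral one-dimensional scheme only the generic point is not closed. -/
theorem eq_genericPoint_of_not_isClosed [CompactSpace X] [IsIntegral X] (hdim : topologicalKrullDim X = 1)
    {x : X} (hx : ¬ IsClosed ({x} : Set X)) : x = genericPoint X := by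
  refine (PureLib.eq_of_specializes (fun W hW => ?_) hx ((genericPoint_spec X).specializes trivial)).symm
  rw [irreducibleComponents_eq_singleton] at hW
  obtain rfl : W = Set.univ := hW
  exact (Homeomorph.Set.univ X).isHomeomorph.topologicalKrullDim_eq.trans hdim

end Groth.Agent.CurveCohLib
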