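import Groth.Agent.CurveCohLib.SubBundle
import Groth.Agent.CurveCohLib.Skyscraper

/-! # Degrees and stability on smooth proper curves -/

set_option autoImplicit false
set_option linter.style.haveILetI false
set_option linter.unusedSectionVars false

universe u
open CategoryTheory CategoryTheory.Limits AlgebraicGeometry TopologicalSpace

namespace Groth.Agent.CurveCohLib

variable (k : Type u) [Field k] {X : Scheme.{u}} [X.Over (Spec (CommRingCat.of k))]
  [IsProper (X ↘ Spec (CommRingCat.of k))] [IsIntegral X]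

/-- Degrees add up in short exact sequences. -/
theorem deg_add {S : ShortComplex X.Modules} (hS : S.ShortExact) (h₁ : Coh.IsCoh S.X₁) (h₂ : Coh.IsCoh S.X₂)
    (h₃ : Coh.IsCoh S.X₃) (a b : ℕ) :
    Curv2.deg k X S.X₂ (a + b) = Curv2.deg k X S.X₁ a + Curv2.deg k X S.X₃ b := by
  unfold Curv2.deg
  rw [euler_additive (k := k) hS h₁ h₂ h₃]
  push_cast
  ring

/-- A monomorphism of bundles of the same rank: the degree does not drop. -/
theorem deg_le_of_mono (hdim : topologicalKrullDim X = 1) {E F : X.Modules} (f : E ⟶ F) [Mono f] {n : ℕ}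
    (hE : FlatMod.IsFinLocFreeOfRank n E) (hF : FlatMod.IsFinLocFreeOfRank n F) :
    Curv2.deg k X E n ≤ Curv2.deg k X F n ∧ (Curv2.deg k X E n = Curv2.deg k X F n ↔ IsIso f) := by
  haveI : IsLocallyNoetherian X := LocallyOfFiniteType.isLocallyNoetherian (X ↘ Spec (CommRingCat.of k))
  haveI : CompactSpace X := QuasiCompact.compactSpace_of_compactSpace (X ↘ Spec (CommRingCat.of k))
  have hEc : Coh.IsCoh E := QCoh.isCoh_iff_isFP.2 (QCoh.isFP_of_isFinLocFree (ConsPropLib.isFinLocFreeOfRank_iff.1 hE).1)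
  have hFc : Coh.IsCoh F := QCoh.isCoh_iff_isFP.2 (QCoh.isFP_of_isFinLocFree (ConsPropLib.isFinLocFreeOfRank_iff.1 hF).1)
  have hC : Coh.IsCoh (cokernel f) := QCoh.isCoh_cokernel hEc.1 hFc f
  have h0 : ∀ x ∈ CohB1.support (cokernel f), IsClosed ({x} : Set X) := fun x hx => by
    by_contra hne
    obtain rfl := eq_genericPoint_of_not_isClosed hdim hne
    have hS : (ShortComplex.mk f (cokernel.π f) (cokernel.condition f)).ShortExact :=
      { exact := ShortComplex.exact_of_g_is_cokernel _ (cokernelIsCokernel f) }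
    have h := genRank_add hS hFc
    change genRank F = genRank E + genRank (cokernel f) at h
    rw [genRank_eq hE, genRank_eq hF] at h
    haveI : Module.Finite (X.presheaf.stalk (genericPoint X)) ((cokernel f).presheaf.stalk (genericPoint X)) :=
      QCoh.finite_stalk_of_isFT hC.1 (QCoh.isFT_of_isFP (QCoh.isCoh_iff_isFP.1 hC)) _
    letI : Field (X.presheaf.stalk (genericPoint X)) := inferInstanceAs (Field X.functionField)
    exact hx (Module.finrank_zero_iff.1 (show genRank (cokernel f) = 0 by omega))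
  obtain ⟨hle, hiff⟩ := euler_le_of_mono (k := k) f hEc hFc h0
  refine ⟨by unfold Curv2.deg; omega, ⟨fun h => hiff.1 ?_, fun h => ?_⟩⟩
  · unfold Curv2.deg at h; omega
  · unfold Curv2.deg; rw [hiff.2 h]

/-- The kernel-image decomposition of a morphism of bundles on a regular curve. -/
theorem exists_ker_image (hpid : ∀ x : X, IsPrincipalIdealRing (X.presheaf.stalk x)) {E F : X.Modules} (φ : E ⟶ F)
    {n m : ℕ} (hE : FlatMod.IsFinLocFreeOfRank n E) (hF : FlatMod.IsFinLocFreeOfRank m F) :
    ∃ a b : ℕ, a + b = n ∧ FlatMod.IsFinLocFreeOfRank a (kernel φ) ∧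
      FlatMod.IsFinLocFreeOfRank b (Abelian.image φ) ∧
      Curv2.deg k X E n = Curv2.deg k X (kernel φ) a + Curv2.deg k X (Abelian.image φ) b := by
  haveI : IsLocallyNoetherian X := LocallyOfFiniteType.isLocallyNoetherian (X ↘ Spec (CommRingCat.of k))
  have hE' := (ConsPropLib.isFinLocFreeOfRank_iff.1 hE).1
  have hF' := (ConsPropLib.isFinLocFreeOfRank_iff.1 hF).1
  have hEc : Coh.IsCoh E := QCoh.isCoh_iff_isFP.2 (QCoh.isFP_of_isFinLocFree hE')
  have hFc : Coh.IsCoh F := QCoh.isCoh_iff_isFP.2 (QCoh.isFP_of_isFinLocFree hF')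
  have hK : Coh.IsCoh (kernel φ) := QCoh.isCoh_kernel hEc hFc φ
  have hG : Coh.IsCoh (Abelian.image φ) := QCoh.isCoh_kernel hFc (QCoh.isCoh_cokernel hEc.1 hFc φ) _
  have hz : kernel.ι φ ≫ Abelian.factorThruImage φ = 0 := by
    rw [← cancel_mono (Abelian.image.ι φ), Category.assoc, Abelian.image.fac, kernel.condition, zero_comp]
  let S : ShortComplex X.Modules := ShortComplex.mk (kernel.ι φ) (Abelian.factorThruImage φ) hz
  have hS : S.ShortExact :=
    { exact := ShortComplex.exact_of_f_is_kernel _ (isKernelOfComp (Abelian.image.ι φ) φ (kernelIsKernel φ)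
        hz (Abelian.image.fac φ)) }
  have hr := genRank_add hS hEc
  change genRank E = genRank (kernel φ) + genRank (Abelian.image φ) at hr
  rw [genRank_eq hE] at hr
  refine ⟨_, _, hr.symm, isFinLocFreeOfRank_of_mono hpid (kernel.ι φ) hK hE',
    isFinLocFreeOfRank_of_mono hpid (Abelian.image.ι φ) hG hF', ?_⟩
  have h := deg_add k hS hK hEc hG (genRank (kernel φ)) (genRank (Abelian.image φ))
  rw [hr]
  exact h

end Groth.Agent.CurveCohLib
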