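import Groth.Agent.CurveCohLib.Proper

/-!
# Linear algebra of a monomorphism with cokernel supported on closed points
-/

universe u

set_option backward.isDefEq.respectTransparency false
set_option backward.isDefEq.respectTransparency.types false

open CategoryTheory CategoryTheory.Limits AlgebraicGeometry TopologicalSpace Opposite
open Groth.Agent.PnCoh.Finite (mapLin deltaLin)

namespace Groth.Agent.CurveCohLib

/-- If every polynomial of positive degree in `φ` is injective, the space vanishes. -/
theorem subsingleton_of_aeval_injective {k V : Type*} [Field k] [AddCommGroup V] [Module k V] [FiniteDimensional k V]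
    (φ : V →ₗ[k] V)
    (h : ∀ p : Polynomial k, p.Monic → 0 < p.natDegree → Function.Injective (Polynomial.aeval φ p)) :
    Subsingleton V := by
  by_contra hV
  rw [not_subsingleton_iff_nontrivial] at hV
  have hi : IsIntegral k φ := Algebra.IsIntegral.isIntegral φ
  have := h _ (minpoly.monic hi) (minpoly.natDegree_pos hi)
  rw [minpoly.aeval] at this
  obtain ⟨a, b, hab⟩ := exists_pair_ne V
  exact hab (this rfl)

variable {X : Scheme.{u}} {k : Type u} [Field k] [X.Over (Spec (CommRingCat.of k))]

variable [IsProper (X ↘ Spec (CommRingCat.of k))] {E F : X.Modules} (f : E ⟶ F) [Mono f]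

/-- The dimension of sections grows at most by the jump of the Euler characteristic; when it grows by
exactly that, the map on first cohomology is injective; it is always surjective. -/
theorem finrank_h0_le_and_injective (hE : Coh.IsCoh E) (hF : Coh.IsCoh F)
    (h0 : ∀ x ∈ CohB1.support (cokernel f), IsClosed ({x} : Set X)) :
    (Module.finrank k (Coh.HH X F 0) : ℤ) ≤
        Module.finrank k (Coh.HH X E 0) + (Curv2.euler k X F - Curv2.euler k X E) ∧
      ((Module.finrank k (Coh.HH X E 0) : ℤ) + (Curv2.euler k X F - Curv2.euler k X E) ≤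
          Module.finrank k (Coh.HH X F 0) → Function.Injective (mapLin k f 1) ∧
            Function.Surjective (mapLin k (cokernel.π f) 0)) ∧
      Function.Surjective (mapLin k f 1) := by
  haveI := isNoetherian_of_proper (k := k) (X := X)
  let S := ShortComplex.mk f (cokernel.π f) (cokernel.condition f)
  have hS : S.ShortExact := { exact := ShortComplex.exact_of_g_is_cokernel _ (cokernelIsCokernel f) }
  have hC : Coh.IsCoh (cokernel f) := QCoh.isCoh_cokernel hE.1 hF f
  have hadd : Curv2.euler k X F = Curv2.euler k X E + Curv2.euler k X (cokernel f) :=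
    euler_additive (k := k) (S := S) hS hE hF hC
  rw [euler_eq_finrank_zero (k := k) hC h0] at hadd
  haveI := finite_HH (k := k) hF 0
  haveI := finite_HH (k := k) hE 0
  haveI := finite_HH (k := k) hC 0
  have e1 := LinearMap.finrank_range_add_finrank_ker (mapLin k (cokernel.π f) 0)
  have e2 : LinearMap.ker (mapLin k (cokernel.π f) 0) = LinearMap.range (mapLin k f 0) :=
    ker_mapLin_g (A := k) (S := S) hS 0
  rw [e2, LinearMap.finrank_range_of_inj (f := mapLin k f 0) (mapLin_f_zero_injective (A := k) (S := S) hS)] at e1
  have e3 := Submodule.finrank_le (LinearMap.range (mapLin k (cokernel.π f) 0))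
  refine ⟨by omega, fun hle => ?_, fun y => ?_⟩
  · have hsurj : LinearMap.range (mapLin k (cokernel.π f) 0) = ⊤ :=
      Submodule.eq_top_of_finrank_eq (by omega)
    refine ⟨?_, LinearMap.range_eq_top.1 hsurj⟩
    rw [← LinearMap.ker_eq_bot, ker_mapLin_f_succ (A := k) (S := S) hS 0, LinearMap.range_eq_bot]
    rw [← LinearMap.ker_eq_top, ker_deltaLin (A := k) (S := S) hS 0]
    exact hsurj
  · haveI : Subsingleton (Coh.HH X (cokernel f) 1) := S0047.result X _ hC h0 1 one_pos
    have : y ∈ LinearMap.ker (mapLin k (cokernel.π f) 1) := LinearMap.mem_ker.2 (Subsingleton.elim _ _)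
    rwa [ker_mapLin_g (A := k) (S := S) hS 1] at this

omit [Mono f] [IsProper (X ↘ Spec (CommRingCat.of k))] in
/-- Cohomology of isomorphic modules. -/
noncomputable def hhEquiv {M N : X.Modules} (e : M ≅ N) (n : ℕ) : Coh.HH X M n ≃ₗ[k] Coh.HH X N n :=
  LinearEquiv.ofLinearMap (mapLin k e.hom n) (mapLin k e.inv n)
    (LinearMap.ext fun x => (PnCoh.Finite.map_map (Y := X.toPresheafedSpace.carrier)
      (((QCoh.toAbFunctor X).map_comp e.inv e.hom).symm.trans
        (by rw [e.inv_hom_id, CategoryTheory.Functor.map_id]; rfl)) n x).trans (Sheaf.H.map_id_apply x))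
    (LinearMap.ext fun x => (PnCoh.Finite.map_map (Y := X.toPresheafedSpace.carrier)
      (((QCoh.toAbFunctor X).map_comp e.hom e.inv).symm.trans
        (by rw [e.hom_inv_id, CategoryTheory.Functor.map_id]; rfl)) n x).trans (Sheaf.H.map_id_apply x))

omit [Mono f] [IsProper (X ↘ Spec (CommRingCat.of k))] in
theorem euler_congr {M N : X.Modules} (e : M ≅ N) : Curv2.euler k X M = Curv2.euler k X N :=
  finsum_congr fun i => by rw [(hhEquiv (k := k) e i).finrank_eq]

end Groth.Agent.CurveCohLib
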