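import Groth.Agent.CurveCohLib.Euler
import Groth.Agent.S0002
import Groth.Agent.S0047

/-!
# Euler characteristics of coherent modules on proper schemes over a field
-/

universe u

open CategoryTheory CategoryTheory.Limits AlgebraicGeometry TopologicalSpace Opposite

namespace Groth.Agent.CurveCohLib

open Groth.Agent.QCoh

variable {X : Scheme.{u}}

/-- A closed set of closed points in a Noetherian scheme is finite. -/
theorem finite_of_closedPoints [IsNoetherian X] {S : Set X} (hS : IsClosed S)
    (h0 : ∀ x ∈ S, IsClosed ({x} : Set X)) : S.Finite := by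
  obtain ⟨Fs, hFs, hcl, hirr, hU⟩ := NoetherianSpace.exists_finite_set_isClosed_irreducible (α := X) hS
  rw [hU]
  refine hFs.sUnion fun t ht => ?_
  obtain ⟨g, hg⟩ := QuasiSober.sober (hirr t ht) (hcl t ht)
  have hgS : g ∈ S := hU.ge ⟨t, ht, hg.mem⟩
  rw [← hg.def, (h0 g hgS).closure_eq]
  exact Set.finite_singleton g

/-- A module with zero stalks is zero. -/
theorem isZero_of_subsingleton_stalks {M : X.Modules} (h : ∀ x, Subsingleton (M.presheaf.stalk x)) : IsZero M := by
  rw [IsZero.iff_id_eq_zero]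
  refine Scheme.Modules.hom_ext _ _ fun U => ?_
  ext s
  show s = 0
  refine eq_zero_of_locally U s fun x hx => ?_
  obtain ⟨V, hxV, i, j, he⟩ := M.presheaf.germ_eq x hx hx s 0 ((h x).elim _ _)
  exact ⟨V, i, hxV, he.trans (map_zero _)⟩

/-- Outside the support every section is locally zero. -/
theorem germ_eq_zero_of_notMem_support {M : X.Modules} {U : X.Opens} (s : Γ(M, U)) {y : X} (hy : y ∈ U)
    (h : y ∉ CohB1.support M) : M.presheaf.germ U y hy s = 0 :=
  (not_not.1 h : Subsingleton (M.presheaf.stalk y)).elim _ _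

/-- A global section with one prescribed germ, vanishing at every other point. -/
theorem exists_section_single [IsNoetherian X] {M : X.Modules} (hM : Coh.IsCoh M)
    (h0 : ∀ x ∈ CohB1.support M, IsClosed ({x} : Set X)) {x : X} (hxS : x ∈ CohB1.support M)
    (m : M.presheaf.stalk x) :
    ∃ s : Γ(M, ⊤), M.presheaf.germ ⊤ x trivial s = m ∧ ∀ y, y ≠ x → M.presheaf.germ ⊤ y trivial s = 0 := by
  classical
  obtain ⟨W, hxW, w, hw⟩ := M.presheaf.germ_exist m
  have hfin := finite_of_closedPoints (isClosed_support_of_isFT hM.1 hM.2) h0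
  have hc : IsClosed (CohB1.support M \ {x}) := by
    have := Set.Finite.isClosed_biUnion (s := CohB1.support M \ {x}) (f := fun y => ({y} : Set X))
      (hfin.subset Set.sdiff_subset) fun y hy => h0 y hy.1
    rwa [Set.biUnion_of_singleton] at this
  let V : X.Opens := W ⊓ ⟨(CohB1.support M \ {x})ᶜ, hc.isOpen_compl⟩
  let O : X.Opens := ⟨{x}ᶜ, (h0 x hxS).isOpen_compl⟩
  have hxV : x ∈ V := ⟨hxW, fun hh => hh.2 rfl⟩
  have hzero : ∀ (T : X.Opens), T ≤ V ⊓ O → ∀ s : Γ(M, T), s = 0 := fun T hT s => by
    refine eq_zero_of_locally T s fun y hy => ?_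
    have h := germ_eq_zero_of_notMem_support s hy fun hS => (hT hy).1.2 ⟨hS, (hT hy).2⟩
    obtain ⟨V', hyV', i, j, he⟩ := M.presheaf.germ_eq y hy hy s 0 (h.trans (map_zero _).symm)
    exact ⟨V', i, hyV', he.trans (map_zero _)⟩
  let U : ULift.{u} Bool → X.Opens := fun b => if b.down then V else O
  let sf : ∀ b, Γ(M, U b) := fun b =>
    if hb : b.down = true then M.presheaf.map (homOfLE (show U b ≤ W by simp [U, hb, V])).op w else 0
  obtain ⟨s, hs, -⟩ := TopCat.Sheaf.existsUnique_gluing' ⟨M.presheaf, M.isSheaf⟩ U ⊤ (fun b => homOfLE le_top)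
    (fun y _ => by
      by_cases hy : y = x
      · exact Opens.mem_iSup.2 ⟨⟨true⟩, hy ▸ hxV⟩
      · exact Opens.mem_iSup.2 ⟨⟨false⟩, hy⟩) sf fun b c => by
    by_cases hbc : b = c
    · subst hbc; rfl
    · refine (hzero _ ?_ _).trans (hzero _ ?_ _).symm <;>
        (rcases b with ⟨_ | _⟩ <;> rcases c with ⟨_ | _⟩ <;> simp_all [U] <;> exact (inf_comm _ _).le)
  refine ⟨s, ?_, fun y hy => ?_⟩
  · refine (M.presheaf.germ_res_apply (homOfLE (le_top (a := U ⟨true⟩))) x hxV s).symm.trans ?_
    refine (congrArg _ (hs ⟨true⟩)).trans ?_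
    exact (M.presheaf.germ_res_apply _ x hxV w).trans hw
  · refine (M.presheaf.germ_res_apply (homOfLE (le_top (a := U ⟨false⟩))) y hy s).symm.trans ?_
    exact (congrArg _ (hs ⟨false⟩)).trans (map_zero _)

/-- A coherent module supported on closed points without global sections is zero. -/
theorem isZero_of_closedSupport [IsNoetherian X] {M : X.Modules} (hM : Coh.IsCoh M)
    (h0 : ∀ x ∈ CohB1.support M, IsClosed ({x} : Set X)) (h : ∀ s : Γ(M, ⊤), s = 0) : IsZero M := by
  refine isZero_of_subsingleton_stalks fun x => not_not.1 fun hx => hx ?_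
  refine subsingleton_of_forall_eq 0 fun m => ?_
  obtain ⟨s, hs, -⟩ := exists_section_single hM h0 hx m
  rw [← hs, h s, map_zero]

variable {k : Type u} [Field k] [X.Over (Spec (CommRingCat.of k))] [IsProper (X ↘ Spec (CommRingCat.of k))]

omit [Field k] in
theorem isNoetherian_of_proper [Field k] [X.Over (Spec (CommRingCat.of k))]
    [IsProper (X ↘ Spec (CommRingCat.of k))] : IsNoetherian X := by
  haveI : CompactSpace X := QuasiCompact.compactSpace_of_compactSpace (X ↘ Spec (CommRingCat.of k))
  haveI : IsLocallyNoetherian X := LocallyOfFiniteType.isLocallyNoetherian (X ↘ Spec (CommRingCat.of k))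
  exact { __ := ‹IsLocallyNoetherian X›, __ := ‹CompactSpace X› }

theorem finite_HH {M : X.Modules} (hM : Coh.IsCoh M) (n : ℕ) : Module.Finite k (Coh.HH X M n) :=
  S0002.result k X M hM n

/-- Additivity of the Euler characteristic. -/
theorem euler_additive {S : ShortComplex X.Modules} (hS : S.ShortExact)
    (h₁ : Coh.IsCoh S.X₁) (h₂ : Coh.IsCoh S.X₂) (h₃ : Coh.IsCoh S.X₃) :
    Curv2.euler k X S.X₂ = Curv2.euler k X S.X₁ + Curv2.euler k X S.X₃ := by
  haveI : CompactSpace X := QuasiCompact.compactSpace_of_compactSpace (X ↘ Spec (CommRingCat.of k))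
  haveI : QuasiSeparatedSpace X := quasiSeparatedSpace_of_quasiSeparated (X ↘ Spec (CommRingCat.of k))
  exact euler_additive_of_isQCoh hS h₁.1 h₂.1 h₃.1 (finite_HH h₁) (finite_HH h₂) (finite_HH h₃)

/-- The Euler characteristic of a coherent module supported on closed points. -/
theorem euler_eq_finrank_zero {M : X.Modules} (hM : Coh.IsCoh M)
    (h0 : ∀ x ∈ CohB1.support M, IsClosed ({x} : Set X)) :
    Curv2.euler k X M = Module.finrank k (Coh.HH X M 0) := by
  haveI := isNoetherian_of_proper (k := k) (X := X)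
  rw [euler_eq_sum (k := k) (N := 1) fun i hi => S0047.result X M hM h0 i hi]
  simp

theorem isZero_of_euler_eq_zero {M : X.Modules} (hM : Coh.IsCoh M)
    (h0 : ∀ x ∈ CohB1.support M, IsClosed ({x} : Set X)) (h : Curv2.euler k X M = 0) : IsZero M := by
  haveI := isNoetherian_of_proper (k := k) (X := X)
  haveI := finite_HH (k := k) hM 0
  rw [euler_eq_finrank_zero hM h0, Int.natCast_eq_zero] at h
  haveI : Subsingleton (Coh.HH X M 0) := Module.finrank_zero_iff.1 h
  refine isZero_of_closedSupport hM h0 fun s => ?_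
  exact (Sheaf.H.equiv₀ (Coh.toAb M) isTerminalTop).symm.injective (Subsingleton.elim _ _)

theorem finrank_HH_zero_eq_zero_of_isZero {M : X.Modules} (h : IsZero M) :
    Module.finrank k (Coh.HH X M 0) = 0 := by
  have hs : ∀ s : Γ(M, ⊤), s = 0 := fun s =>
    congrArg (fun φ : M ⟶ M => φ.app ⊤ s) (h.eq_of_src (𝟙 M) 0)
  have : Subsingleton (Coh.HH X M 0) := subsingleton_of_forall_eq 0 fun x =>
    (Sheaf.H.equiv₀ (Coh.toAb M) isTerminalTop).injective ((hs _).trans (hs _).symm)
  exact Module.finrank_zero_of_subsingleton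

/-- Comparison along a monomorphism with cokernel supported on closed points. -/
theorem euler_le_of_mono {E F : X.Modules} (f : E ⟶ F) [Mono f] (hE : Coh.IsCoh E) (hF : Coh.IsCoh F)
    (h0 : ∀ x ∈ CohB1.support (cokernel f), IsClosed ({x} : Set X)) :
    Curv2.euler k X E ≤ Curv2.euler k X F ∧ (Curv2.euler k X E = Curv2.euler k X F ↔ IsIso f) := by
  haveI := isNoetherian_of_proper (k := k) (X := X)
  have hS : (ShortComplex.mk f (cokernel.π f) (cokernel.condition f)).ShortExact :=
    { exact := ShortComplex.exact_of_g_is_cokernel _ (cokernelIsCokernel f) }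
  have hC : Coh.IsCoh (cokernel f) := isCoh_cokernel hE.1 hF f
  have hadd : Curv2.euler k X F = Curv2.euler k X E + Curv2.euler k X (cokernel f) :=
    euler_additive (k := k) (S := ShortComplex.mk f (cokernel.π f) (cokernel.condition f)) hS hE hF hC
  have hpos : (0 : ℤ) ≤ Curv2.euler k X (cokernel f) := by
    rw [euler_eq_finrank_zero (k := k) hC h0]; exact Int.natCast_nonneg _
  refine ⟨by linarith, fun he => ?_, fun he => ?_⟩
  · have hz := isZero_of_euler_eq_zero (k := k) hC h0 (by linarith)
    haveI : Epi f := Abelian.epi_of_cokernel_π_eq_zero _ (hz.eq_of_tgt _ _)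
    exact isIso_of_mono_of_epi f
  · have hz : IsZero (cokernel f) := isZero_cokernel_of_epi f
    rw [euler_eq_finrank_zero (k := k) hC h0, finrank_HH_zero_eq_zero_of_isZero hz] at hadd
    simpa using hadd.symm

end Groth.Agent.CurveCohLib
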