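import Groth.Agent.Lib.CurveSpecial
import Groth.Agent.Lib.CurvePsi
import Groth.Agent.ParShLib.ResStalk

/-! Non-special twists of ideal sheaves on an integral proper curve. -/

noncomputable section

set_option linter.style.haveILetI false
set_option linter.unusedSectionVars false
set_option backward.isDefEq.respectTransparency false
set_option backward.isDefEq.respectTransparency.types false

universe u

open CategoryTheory CategoryTheory.Limits AlgebraicGeometry TopologicalSpace Opposite
open Groth.Agent.PnCoh.Finite (mapLin)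

namespace Groth.Agent.CurveCohLib.Nonspecial

open Groth.Agent.CurveBundle Groth.Agent.CurveSlope

variable {X : Scheme.{u}} (k : Type u) [Field k] [X.Over (Spec (CommRingCat.of k))]
  [IsIntegral X] [IsProper (X ↘ Spec (CommRingCat.of k))]

include k in
/-- A map with torsion cokernel is surjective on first cohomology. -/
theorem surjective_mapLin (hdim : topologicalKrullDim X = 1) {A F : X.Modules} (hA : Coh.IsCoh A) (hF : Coh.IsCoh F)
    (φ : A ⟶ F) [Mono φ] (hrk : rk (cokernel φ) = 0) : Function.Surjective (mapLin k φ 1) := by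
  haveI := CurveCohLib.isNoetherian_of_proper (k := k) (X := X)
  have hS := shortExact_cokernel_of_mono φ
  have hTc : Coh.IsCoh (cokernel φ) := QCoh.isCoh_cokernel hA.1 hF φ
  have hTcl : ∀ x ∈ CohB1.support (cokernel φ), IsClosed ({x} : Set X) := fun x hx => by
    by_contra hxc
    obtain rfl := CurveCohLib.eq_genericPoint_of_not_isClosed hdim hxc
    letI := (isField_stalk_generic (X := X)).toField
    haveI := finite_stalk_of_coh hTc (genericPoint X)
    exact hx (Module.finrank_zero_iff.1 hrk)
  haveI := CurveVanish.subsingleton_HH_of_finite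
    (CurveCohLib.finite_of_closedPoints (QCoh.isClosed_support_of_isFT hTc.1 hTc.2) hTcl) hTcl
    (fun x hx => not_not.1 hx) 0
  intro y
  exact (CurveCohLib.ker_mapLin_g k hS 1).le
    (LinearMap.mem_ker.2 (Subsingleton.elim (mapLin k (cokernel.π φ) 1 y) 0))

/-- More than `g` sections, each with torsion cokernel, force `H¹ = 0`. -/
theorem h1_of_sections (hdim : topologicalKrullDim X = 1) {F : X.Modules} (hF : Coh.IsCoh F)
    (hsec : ∀ φ : Coh.structureModule X ⟶ F, φ ≠ 0 → Mono φ ∧ rk (cokernel φ) = 0)
    (h : Curv2.genus k X < Module.finrank k (Coh.HH X F 0)) : Subsingleton (Coh.HH X F 1) := by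
  haveI := CurveCohLib.isNoetherian_of_proper (k := k) (X := X)
  have hOc : Coh.IsCoh (Coh.structureModule X) := QCoh.isCoh_structureModule'
  haveI := CurveCohLib.finite_HH (k := k) hF 0
  haveI := CurveCohLib.finite_HH (k := k) hF 1
  haveI := CurveCohLib.finite_HH (k := k) hOc 1
  refine subsingleton_of_forall_eq 0 fun y => (Module.forall_dual_apply_eq_zero_iff k y).1 fun l => ?_
  by_contra hl
  let Ψ : Coh.HH X F 0 →ₗ[k] Module.Dual k (Coh.HH X (Coh.structureModule X) 1) :=
    (LinearMap.compRight k l).comp (CurveSpecial.mulLin k F 1)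
  have hinj : Function.Injective Ψ := (injective_iff_map_eq_zero Ψ).2 fun t ht => by
    by_contra ht0
    obtain ⟨hm, hr⟩ := hsec _ (CurveSpecial.homOfClass_ne_zero ht0)
    haveI := hm
    obtain ⟨x, rfl⟩ := surjective_mapLin k hdim hOc hF (CurveSpecial.homOfClass t) hr y
    exact hl (LinearMap.congr_fun ht x)
  have := LinearMap.finrank_le_finrank_of_injective hinj
  rw [Subspace.dual_finrank_eq] at this
  exact absurd this (not_le.2 h)

/-- `χ(O) = 1 - g`. -/
theorem euler_structure (hdim : topologicalKrullDim X = 1)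
    (h0 : Module.finrank k (Coh.HH X (Coh.structureModule X) 0) = 1) :
    Curv2.euler k X (Coh.structureModule X) = 1 - (Curv2.genus k X : ℤ) := by
  rw [CurveRR.euler_eq_h0_sub_h1 k hdim.le QCoh.isQCoh_structureModule, h0]
  rfl

/-- Large Euler characteristic forces `H¹ = 0`. -/
theorem h1_of_euler (hdim : topologicalKrullDim X = 1) {F : X.Modules} (hF : Coh.IsCoh F)
    (hsec : ∀ φ : Coh.structureModule X ⟶ F, φ ≠ 0 → Mono φ ∧ rk (cokernel φ) = 0)
    (h : (Curv2.genus k X : ℤ) ≤ Curv2.euler k X F) : Subsingleton (Coh.HH X F 1) := by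
  by_cases hg : Curv2.genus k X < Module.finrank k (Coh.HH X F 0)
  · exact h1_of_sections k hdim hF hsec hg
  haveI := CurveCohLib.finite_HH (k := k) hF 1
  have hχ := CurveRR.euler_eq_h0_sub_h1 k hdim.le hF.1
  exact Module.finrank_zero_iff.1 (show Module.finrank k (Coh.HH X F 1) = 0 by omega)

include k in
/-- Sections of a submodule of an invertible module. -/
theorem section_of_sub {F L : X.Modules} (hF : Coh.IsCoh F) (hL : PicF.IsInvertible L) (j : F ⟶ L) [Mono j]
    (φ : Coh.structureModule X ⟶ F) (hφ : φ ≠ 0) : Mono φ ∧ rk (cokernel φ) = 0 := by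
  haveI := CurveCohLib.isNoetherian_of_proper (k := k) (X := X)
  haveI : Mono (φ ≫ j) := InvEnd.mono_of_ne_zero CurveDeg.isInvertible_structureModule hL _ fun h =>
    hφ (by rwa [← zero_comp (f := j), cancel_mono] at h)
  haveI : Mono φ := mono_of_mono φ j
  have hLc := CurveDeg.isCoh_of_isInvertible hL
  have h1 := rk_add_coh k _ _ _ (shortExact_cokernel_of_mono φ) hF
  have h2 := rk_add_coh k _ _ _ (shortExact_cokernel_of_mono j) hLc
  rw [rk_eq (InvEnd.isFinLocFreeOfRank_one CurveDeg.isInvertible_structureModule)] at h1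
  rw [rk_eq (InvEnd.isFinLocFreeOfRank_one hL)] at h2
  exact ⟨inferInstance, by omega⟩

/-- The structure sequence of a closed subscheme. -/
theorem ideal_shortExact (Z : X.IdealSheafData) :
    (ShortComplex.mk (ClSub.idealModι Z) (ClSub.toSubscheme Z) (kernel.condition _)).ShortExact := by
  haveI : Epi (ClSub.toSubscheme Z) := by
    refine Preadditive.epi_of_isZero_cokernel _ (CurveCohLib.isZero_of_subsingleton_stalks fun x => ?_)
    haveI : Epi ((DerSch.stalkFunctor X x).map (ClSub.toSubscheme Z)) := by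
      refine (ModuleCat.epi_iff_surjective _).2 fun q => ?_
      obtain ⟨V, hxV, s, rfl⟩ := (ClSub.quotMod Z).presheaf.germ_exist q
      obtain ⟨_, ⟨W, hW, rfl⟩, hxW, hWV⟩ :=
        X.isBasis_affineOpens.exists_subset_of_mem_open (show x ∈ V from hxV) V.2
      have hle : W ≤ V := hWV
      obtain ⟨r, hr⟩ := Z.subschemeι_app_surjective ⟨W, hW⟩
        (show Γ(Z.subscheme, Z.subschemeι ⁻¹ᵁ W) from (ClSub.quotMod Z).presheaf.map (homOfLE hle).op s)
      refine ⟨(Coh.structureModule X).presheaf.germ W x hxW r, ?_⟩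
      rw [← (ClSub.quotMod Z).presheaf.germ_res_apply (homOfLE hle) x hxW s]
      refine Eq.trans ?_ (congrArg ((ClSub.quotMod Z).presheaf.germ W x hxW) hr)
      exact TopCat.Presheaf.stalkFunctor_map_germ_apply W x hxW ((Scheme.Modules.toPresheaf X).map (ClSub.toSubscheme Z)) r
    exact ModuleCat.subsingleton_of_isZero ((isZero_cokernel_of_epi
      ((DerSch.stalkFunctor X x).map (ClSub.toSubscheme Z))).of_iso
        (PreservesCokernel.iso (DerSch.stalkFunctor X x) (ClSub.toSubscheme Z)))
  exact shortExact_kernel_of_epi _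

include k in
/-- A closed subscheme of dimension zero lies in the closed points. -/
theorem isClosed_of_mem_support (hdim : topologicalKrullDim X = 1) (Z : X.IdealSheafData)
    (hZ : topologicalKrullDim (Z.support : Set X) ≤ 0) {x : X} (hx : x ∈ Z.support) : IsClosed ({x} : Set X) := by
  haveI := CurveCohLib.isNoetherian_of_proper (k := k) (X := X)
  by_contra hxc
  obtain rfl := CurveCohLib.eq_genericPoint_of_not_isClosed hdim hxc
  have huniv : (Z.support : Set X) = Set.univ := Set.eq_univ_of_forall fun y =>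
    ((genericPoint_spec X).specializes (Set.mem_univ y)).mem_closed Z.support.isClosed hx
  rw [huniv] at hZ
  have := IsHomeomorph.topologicalKrullDim_eq _ (Homeomorph.Set.univ X).isHomeomorph
  rw [this, hdim] at hZ
  exact absurd hZ (by decide)

variable (Z : X.IdealSheafData) {L : X.Modules} (hL : PicF.IsInvertible L)

/-- The twisted ideal. -/
abbrev twist (L : X.Modules) : X.Modules := (DCoh.tensorBi.obj L).obj (ClSub.idealMod Z)

include k hL in
theorem isCoh_twist : Coh.IsCoh (twist Z L) := by
  haveI := CurveCohLib.isNoetherian_of_proper (k := k) (X := X)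
  exact CurveTensor.isCoh_tensor (fun y => let ⟨W, hy, he⟩ := InvEnd.isFinLocFreeOfRank_one hL y; ⟨W, 1, hy, he⟩)
    (QCoh.isCoh_kernel QCoh.isCoh_structureModule' (ParShLib.isCoh_quotMod Z) _)

include k hL in
theorem section_twist (φ : Coh.structureModule X ⟶ twist Z L) (hφ : φ ≠ 0) : Mono φ ∧ rk (cokernel φ) = 0 := by
  have hLf : FlatMod.IsFinLocFree L := fun y => let ⟨W, hy, he⟩ := InvEnd.isFinLocFreeOfRank_one hL y; ⟨W, 1, hy, he⟩
  haveI : Mono ((DCoh.tensorBi.obj L).map (ClSub.idealModι Z)) :=
    (CurveTensor.shortExact_tensor hLf _ _ _ (ideal_shortExact Z)).mono_f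
  exact section_of_sub k (isCoh_twist k Z hL) hL
    ((DCoh.tensorBi.obj L).map (ClSub.idealModι Z) ≫ (KFlatLib.tensorUnitIso L).hom) φ hφ

include hL in
/-- Riemann–Roch for a twisted ideal. -/
theorem euler_twist (hdim : topologicalKrullDim X = 1) (hZ : topologicalKrullDim (Z.support : Set X) ≤ 0) :
    Curv2.euler k X (twist Z L) = Curv2.deg k X L 1 + Curv2.euler k X (Coh.structureModule X) -
      Module.finrank k (Coh.HH X (ClSub.quotMod Z) 0) := by
  haveI := CurveCohLib.isNoetherian_of_proper (k := k) (X := X)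
  have hL1 := InvEnd.isFinLocFreeOfRank_one hL
  have hLf : FlatMod.IsFinLocFree L := fun y => let ⟨W, hy, he⟩ := hL1 y; ⟨W, 1, hy, he⟩
  have hQ := ParShLib.isCoh_quotMod Z
  have hI : Coh.IsCoh (ClSub.idealMod Z) := QCoh.isCoh_kernel QCoh.isCoh_structureModule' hQ _
  have hcl : ∀ x ∈ CohB1.support (ClSub.quotMod Z), IsClosed ({x} : Set X) := fun x hx =>
    isClosed_of_mem_support k hdim Z hZ (not_not.1 fun h => hx (ParShLib.subsingleton_stalk_quotMod Z h))
  have hadd := euler_add' k _ _ _ (CurveTensor.shortExact_tensor hLf _ _ _ (ideal_shortExact Z))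
    (CurveTensor.isCoh_tensor hLf hI) (CurveTensor.isCoh_tensor hLf QCoh.isCoh_structureModule')
    (CurveTensor.isCoh_tensor hLf hQ)
  rw [Euler.euler_congr k (KFlatLib.tensorUnitIso L), CurveTensor.euler_tensor_torsion k hL1 hQ hcl,
    CurveCohLib.euler_eq_finrank_zero hQ hcl] at hadd
  unfold Curv2.deg
  change _ = Curv2.euler k X (twist Z L) + _ at hadd
  push_cast at hadd ⊢
  omega

end Groth.Agent.CurveCohLib.Nonspecial
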