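import Groth.Agent.SmoothReg.Scheme
import Groth.Agent.Lib.CurveSection

/-! Regular schemes of finite type over an algebraically closed field are smooth. -/

noncomputable section

set_option linter.style.haveILetI false
set_option linter.unusedSectionVars false
set_option backward.isDefEq.respectTransparency false
set_option backward.isDefEq.respectTransparency.types false

universe u

open CategoryTheory CategoryTheory.Limits AlgebraicGeometry TopologicalSpace Opposite

attribute [local instance] Curv2.resAlgebra

namespace Groth.Agent.CurveCohLib.RegularCurve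

theorem smooth_of_regular (k : Type u) [Field k] [IsAlgClosed k] {X : Scheme.{u}}
    [X.Over (Spec (CommRingCat.of k))] [LocallyOfFiniteType (X ↘ Spec (CommRingCat.of k))]
    (hreg : ∀ x : X, IsClosed ({x} : Set X) → IsRegularLocalRing (X.presheaf.stalk x)) :
    Smooth (X ↘ Spec (CommRingCat.of k)) := by
  haveI : JacobsonSpace X := LocallyOfFiniteType.jacobsonSpace (X ↘ Spec (CommRingCat.of k))
  rw [← Scheme.Hom.smoothLocus_eq_top_iff, ← TopologicalSpace.Opens.coe_eq_univ]
  by_contra hne
  obtain ⟨x, hx, hxc⟩ := nonempty_inter_closedPoints (Set.nonempty_compl.2 hne)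
    (X ↘ Spec (CommRingCat.of k)).smoothLocus.2.isClosed_compl.isLocallyClosed
  have e : k ≃+* X.residueField x := RingEquiv.ofBijective (Curv2.resMap k X x)
    ⟨(Curv2.resMap k X x).injective, CurveSection.surjective_resMap k hxc⟩
  haveI : Algebra.IsAlgebraic k (X.residueField x) := ⟨fun y => by
    obtain ⟨c, rfl⟩ := CurveSection.surjective_resMap k hxc y
    exact isAlgebraic_algebraMap c⟩
  haveI : Algebra.IsSeparable k (X.residueField x) := ⟨fun y => by
    obtain ⟨c, rfl⟩ := CurveSection.surjective_resMap k hxc y
    exact isSeparable_algebraMap c⟩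
  exact hx (SmoothReg.mem_smoothLocus_of_isSeparable _ x (fun c => rfl) (hreg x hxc))

end Groth.Agent.CurveCohLib.RegularCurve
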