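import Groth.Agent.CurveCohLib.HopfBilinear
import Groth.Agent.CurveCohLib.Nonspecial
import Groth.Agent.GeomField.GlobalFunctions
import Groth.Agent.Lib.CurveEnd

/-! Clifford's inequality, without duality, and slope inequalities. -/

noncomputable section

set_option linter.style.haveILetI false
set_option linter.unusedSectionVars false
set_option backward.isDefEq.respectTransparency false
set_option backward.isDefEq.respectTransparency.types false

universe u

open CategoryTheory CategoryTheory.Limits AlgebraicGeometry TopologicalSpace Opposite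
open Groth.Agent.PnCoh.Finite (mapLin)

namespace Groth.Agent.CurveCohLib.Clifford

open Groth.Agent.CurveBundle Groth.Agent.CurveSlope

variable {X : Scheme.{u}} (k : Type u) [Field k] [IsAlgClosed k] [X.Over (Spec (CommRingCat.of k))]
  [IsIntegral X] [IsProper (X ↘ Spec (CommRingCat.of k))]

attribute [local instance] GeomField.globalAlgebra

/-- An integral proper scheme over an algebraically closed field has only constant functions. -/
theorem finrank_h0_structure : Module.finrank k (Coh.HH X (Coh.structureModule X) 0) = 1 := by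
  rw [GeomField.finrank_HH_zero]
  let e : k ≃ₗ[k] Γ(X, ⊤) := LinearEquiv.ofBijective (Algebra.linearMap k Γ(X, ⊤))
    (CurveEnd.toGlobal_bijective (X := X) (k := k))
  rw [← e.finrank_eq, Module.finrank_self]

variable (hdim : topologicalKrullDim X = 1) {M : X.Modules} (hM : PicF.IsInvertible M)
include hdim hM

/-- `h⁰ + h¹ ≤ g + 1` when both are positive. -/
theorem h0_add_h1_le (h0 : Nontrivial (Coh.HH X M 0)) (h1 : Nontrivial (Coh.HH X M 1)) :
    Module.finrank k (Coh.HH X M 0) + Module.finrank k (Coh.HH X M 1) ≤ Curv2.genus k X + 1 := by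
  haveI := CurveCohLib.isNoetherian_of_proper (k := k) (X := X)
  have hMc := CurveDeg.isCoh_of_isInvertible hM
  have hOc : Coh.IsCoh (Coh.structureModule X) := QCoh.isCoh_structureModule'
  haveI := CurveCohLib.finite_HH (k := k) hMc 0
  haveI := CurveCohLib.finite_HH (k := k) hMc 1
  haveI := CurveCohLib.finite_HH (k := k) hOc 1
  let B : Coh.HH X M 0 →ₗ[k] Module.Dual k (Coh.HH X M 1) →ₗ[k]
      Module.Dual k (Coh.HH X (Coh.structureModule X) 1) :=
    LinearMap.mk₂ k (fun t l => l.comp (CurveSpecial.mulLin k M 1 t))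
      (fun s t l => by rw [map_add, LinearMap.comp_add])
      (fun c t l => by rw [map_smul, LinearMap.comp_smul])
      (fun t l l' => LinearMap.add_comp _ _ _) (fun c t l => LinearMap.smul_comp _ _ _)
  have key := HopfBilinear.finrank_add_le B fun t l htl => by
    by_contra hcon
    push Not at hcon
    obtain ⟨hm, hr⟩ := Nonspecial.section_of_sub k hMc hM (𝟙 M) _ (CurveSpecial.homOfClass_ne_zero hcon.1)
    haveI := hm
    refine hcon.2 (LinearMap.ext fun y => ?_)
    obtain ⟨x, rfl⟩ := Nonspecial.surjective_mapLin k hdim hOc hMc (CurveSpecial.homOfClass t) hr y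
    exact LinearMap.congr_fun htl x
  rw [Subspace.dual_finrank_eq, Subspace.dual_finrank_eq] at key
  exact key

/-- Riemann–Roch. -/
theorem deg_eq : Curv2.deg k X M 1 =
    (Module.finrank k (Coh.HH X M 0) : ℤ) - Module.finrank k (Coh.HH X M 1) + Curv2.genus k X - 1 := by
  haveI := CurveCohLib.isNoetherian_of_proper (k := k) (X := X)
  have hO := Nonspecial.euler_structure k hdim (finrank_h0_structure k (X := X))
  have hχ := CurveRR.euler_eq_h0_sub_h1 k hdim.le (CurveDeg.isCoh_of_isInvertible hM).1
  rw [Curv2.deg, hO, hχ]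
  push_cast
  ring

/-- Either nonspecial, or Clifford. -/
theorem dichotomy {m : ℕ} (hsec : m + 1 ≤ Module.finrank k (Coh.HH X M 0)) :
    (m : ℤ) + Curv2.genus k X ≤ Curv2.deg k X M 1 ∨ 2 * (m : ℤ) ≤ Curv2.deg k X M 1 := by
  have hdeg := deg_eq k hdim hM
  haveI := CurveCohLib.isNoetherian_of_proper (k := k) (X := X)
  haveI := CurveCohLib.finite_HH (k := k) (CurveDeg.isCoh_of_isInvertible hM) 1
  by_cases h1 : Module.finrank k (Coh.HH X M 1) = 0
  · left; omega
  · right
    have := h0_add_h1_le k hdim hM (Module.nontrivial_of_finrank_pos (R := k) (by omega))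
      (Module.nontrivial_of_finrank_pos (R := k) (by omega))
    omega

/-- The weak slope inequality. -/
theorem slope_le {d : ℤ} (hd : 2 * (Curv2.genus k X : ℤ) ≤ d) {m : ℕ}
    (hsec : m + 1 ≤ Module.finrank k (Coh.HH X M 0)) (hdeg : Curv2.deg k X M 1 ≤ d) :
    d * (m : ℤ) ≤ Curv2.deg k X M 1 * (d - Curv2.genus k X) := by
  rcases dichotomy k hdim hM hsec with h | h
  · nlinarith [mul_le_mul_of_nonneg_left h (show (0 : ℤ) ≤ d by omega),
      mul_le_mul_of_nonneg_left hdeg (Nat.cast_nonneg (α := ℤ) (Curv2.genus k X))]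
  · nlinarith [mul_le_mul_of_nonneg_left h (show (0 : ℤ) ≤ d by omega),
      mul_nonneg (show (0 : ℤ) ≤ Curv2.deg k X M 1 by omega) (show (0 : ℤ) ≤ d - 2 * Curv2.genus k X by omega)]

/-- The strict slope inequality. -/
theorem slope_lt (hg : 1 ≤ Curv2.genus k X) {d : ℤ} (hd : 2 * (Curv2.genus k X : ℤ) < d) {m : ℕ} (hm : 1 ≤ m)
    (hsec : m + 1 ≤ Module.finrank k (Coh.HH X M 0)) (hdeg : Curv2.deg k X M 1 ≤ d)
    (hlt : Curv2.deg k X M 1 < d ∨ (m : ℤ) < d - Curv2.genus k X) :
    d * (m : ℤ) < Curv2.deg k X M 1 * (d - Curv2.genus k X) := by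
  rcases dichotomy k hdim hM hsec with h | h
  · rcases hlt with h' | h'
    · nlinarith [mul_le_mul_of_nonneg_left h (show (0 : ℤ) ≤ d by omega),
        mul_lt_mul_of_pos_left h' (show (0 : ℤ) < Curv2.genus k X by exact_mod_cast hg)]
    · rcases hdeg.lt_or_eq with h'' | h''
      · nlinarith [mul_le_mul_of_nonneg_left h (show (0 : ℤ) ≤ d by omega),
          mul_lt_mul_of_pos_left h'' (show (0 : ℤ) < Curv2.genus k X by exact_mod_cast hg)]
      · rw [h'']
        exact mul_lt_mul_of_pos_left h' (by omega)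
  · nlinarith [mul_le_mul_of_nonneg_left h (show (0 : ℤ) ≤ d by omega),
      mul_pos (show (0 : ℤ) < Curv2.deg k X M 1 by omega) (show (0 : ℤ) < d - 2 * Curv2.genus k X by omega)]

end Groth.Agent.CurveCohLib.Clifford
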