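import Groth.Agent.CurveCohLib.GlobGen
import Groth.Agent.CurveCohLib.RegularCurve
import Groth.Agent.Lib.CurvePoint
import Groth.Agent.AmpleX.Generated

/-! Twisting by a point and global generation. -/

noncomputable section

set_option linter.style.haveILetI false
set_option linter.unusedSectionVars false
set_option backward.isDefEq.respectTransparency false
set_option backward.isDefEq.respectTransparency.types false

universe u

open CategoryTheory CategoryTheory.Limits AlgebraicGeometry TopologicalSpace Opposite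
open Groth.Agent.PnCoh.Finite (mapLin)

namespace Groth.Agent.CurveCohLib.PointTwist

open Groth.Agent.CurveBundle Groth.Agent.CurveSlope Groth.Agent.CurveStable

variable {X : Scheme.{u}} (k : Type u) [Field k] [IsAlgClosed k] [X.Over (Spec (CommRingCat.of k))]
  [IsIntegral X] [IsProper (X ↘ Spec (CommRingCat.of k))] [Smooth (X ↘ Spec (CommRingCat.of k))]
  {L : X.Modules} (hL : PicF.IsInvertible L) (p : X) (hp : IsClosed ({p} : Set X))

include hL in
/-- Twisting by a point loses at most one section. -/
theorem h0_le : Module.finrank k (Coh.HH X L 0) ≤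
    Module.finrank k (Coh.HH X ((DCoh.tensorBi.obj L).obj (CurvePoint.ptMod p hp)) 0) + 1 :=
  (CurvePoint.finrank_twist p hp k (InvEnd.isFinLocFreeOfRank_one hL)).1

include hL in
/-- A drop of sections gives a section not vanishing at the point. -/
theorem exists_ne_zero_of_lt
    (h : Module.finrank k (Coh.HH X ((DCoh.tensorBi.obj L).obj (CurvePoint.ptMod p hp)) 0) <
      Module.finrank k (Coh.HH X L 0)) :
    ∃ t, mapLin k ((DCoh.tensorBi.obj L).map (ClSub.toSubscheme (CurvePoint.ptIdeal p hp))) 0 t ≠ 0 := by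
  by_contra hcon
  push Not at hcon
  haveI := CurveCohLib.isNoetherian_of_proper (k := k) (X := X)
  have hS := CurveTensor.shortExact_tensor (isFinLocFree_of_rank (InvEnd.isFinLocFreeOfRank_one hL)) _ _ _
    (CurvePoint.shortExact_pt p hp)
  have e1 := CurveCohLib.ker_mapLin_g k hS 0
  have e2 := CurveCohLib.mapLin_f_zero_injective k hS
  have e3 : LinearMap.range (mapLin k ((DCoh.tensorBi.obj L).map (ClSub.idealModι (CurvePoint.ptIdeal p hp))) 0) = ⊤ :=
    eq_top_iff.2 fun t _ => e1.le (LinearMap.mem_ker.2 (hcon t))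
  have e4 := LinearMap.finrank_range_of_inj e2
  change Module.finrank k (LinearMap.range (mapLin k ((DCoh.tensorBi.obj L).map (ClSub.idealModι (CurvePoint.ptIdeal p hp))) 0)) = _ at e4
  rw [e3, finrank_top, (CurveCohLib.hhEquiv (k := k) (KFlatLib.tensorUnitIso L) 0).finrank_eq] at e4
  change Module.finrank k (Coh.HH X L 0) = Module.finrank k (Coh.HH X ((DCoh.tensorBi.obj L).obj (CurvePoint.ptMod p hp)) 0) at e4
  omega

omit [IsAlgClosed k] [IsIntegral X] [IsProper (X ↘ Spec (CommRingCat.of k))] [Smooth (X ↘ Spec (CommRingCat.of k))] in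
/-- Global sections of a globally generated module detect morphisms. -/
theorem eq_zero_of_gg {M N : X.Modules} (hM : Curv2.IsGloballyGenerated M) (g : M ⟶ N)
    (h : ∀ t : Coh.HH X M 0, mapLin k g 0 t = 0) : g = 0 := by
  obtain ⟨ι, q, hq⟩ := hM
  rw [← cancel_epi q, comp_zero]
  refine Sigma.hom_ext (f := fun _ : ι => SheafOfModules.unit X.ringCatSheaf) _ _ fun i => ?_
  rw [comp_zero]
  let s : Coh.structureModule X ⟶ M := Sigma.ι (fun _ : ι => SheafOfModules.unit X.ringCatSheaf) i ≫ q
  show Sigma.ι (fun _ : ι => SheafOfModules.unit X.ringCatSheaf) i ≫ q ≫ g = 0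
  rw [← Category.assoc]
  refine CurveRR.hom_ext_one (φ := s ≫ g) (ψ := 0) ?_
  have h1 := h ((Sheaf.H.equiv₀ (Coh.toAb M) isTerminalTop).symm (s.app ⊤ (H23.Frame.one ⊤)))
  have h2 := (congrArg (Sheaf.H.equiv₀ (Coh.toAb N) isTerminalTop) h1).trans (map_zero _)
  refine Eq.trans ?_ h2
  refine Eq.trans ?_ (Sheaf.H.equiv₀_naturality isTerminalTop ((QCoh.toAbFunctor X).map g) _)
  exact congrArg (g.app ⊤) (AddEquiv.apply_symm_apply _ _).symm

include hL in
/-- Sections of a globally generated invertible module drop at each point. -/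
theorem lt_of_gg (hgg : Curv2.IsGloballyGenerated L) :
    Module.finrank k (Coh.HH X ((DCoh.tensorBi.obj L).obj (CurvePoint.ptMod p hp)) 0) <
      Module.finrank k (Coh.HH X L 0) := by
  haveI := CurveCohLib.isNoetherian_of_proper (k := k) (X := X)
  have hLf := isFinLocFree_of_rank (InvEnd.isFinLocFreeOfRank_one hL)
  have hS := CurveTensor.shortExact_tensor hLf _ _ _ (CurvePoint.shortExact_pt p hp)
  let π := (DCoh.tensorBi.obj L).map (ClSub.toSubscheme (CurvePoint.ptIdeal p hp))
  obtain ⟨t, ht⟩ : ∃ t, mapLin k π 0 t ≠ 0 := by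
    by_contra hcon
    push Not at hcon
    have hπ : π = 0 := eq_zero_of_gg k
      (AmpleX.isGloballyGenerated_of_iso (KFlatLib.tensorUnitIso L).symm hgg) π hcon
    haveI : Epi π := hS.epi_g
    have hz : IsZero ((DCoh.tensorBi.obj L).obj (ClSub.quotMod (CurvePoint.ptIdeal p hp))) := by
      rw [IsZero.iff_id_eq_zero, ← cancel_epi π, hπ]
      simp
    have h1 := CurveTensor.euler_tensor_torsion k (InvEnd.isFinLocFreeOfRank_one hL) (CurvePoint.isCoh_quot p hp k)
      (CurvePoint.closed_support p hp)
    rw [CurvePoint.euler_quot p hp k, CurveCohLib.euler_eq_finrank_zero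
      (CurveTensor.isCoh_tensor hLf (CurvePoint.isCoh_quot p hp k))
      (fun x hx => CurvePoint.closed_support p hp x (CurveTensor.support_tensor_subset hx))] at h1
    haveI := Euler.subsingleton_HH_of_isZero hz 0
    rw [Module.finrank_zero_of_subsingleton] at h1
    norm_num at h1
  have e1 := CurveCohLib.ker_mapLin_g k hS 0
  have e2 := CurveCohLib.mapLin_f_zero_injective k hS
  haveI := CurveCohLib.finite_HH (k := k) (CurveTensor.isCoh_tensor hLf QCoh.isCoh_structureModule') 0
  have e3 : LinearMap.ker (mapLin k π 0) < ⊤ :=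
    lt_top_iff_ne_top.2 fun h => ht (LinearMap.mem_ker.1 (h ▸ Submodule.mem_top))
  have e4 := Submodule.finrank_lt e3.ne
  have e5 : Module.finrank k (LinearMap.ker (mapLin k π 0)) = _ :=
    (congrArg (fun S : Submodule k _ => Module.finrank k S) e1).trans (LinearMap.finrank_range_of_inj e2)
  rw [e5, (CurveCohLib.hhEquiv (k := k) (KFlatLib.tensorUnitIso L) 0).finrank_eq] at e4
  exact e4

include hL in
/-- Global generation from drops of sections. -/
theorem gg_of_lt (hdim : topologicalKrullDim X = 1)
    (h : ∀ (p : X) (hp : IsClosed ({p} : Set X)),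
      Module.finrank k (Coh.HH X ((DCoh.tensorBi.obj L).obj (CurvePoint.ptMod p hp)) 0) <
        Module.finrank k (Coh.HH X L 0)) : Curv2.IsGloballyGenerated L := by
  obtain ⟨S, hS, hcl⟩ := CurveSection.exists_closed_finset k (X := X) hdim 1
  obtain ⟨p, hp⟩ := Finset.card_pos.1 (show 0 < S.card by omega)
  have := h p (hcl p hp)
  exact GlobGen.isGloballyGenerated k hdim hL (CurveRR.exists_hom_ne_zero k (P := L) (by omega))
    fun x hx => exists_ne_zero_of_lt k hL x hx (h x hx)

end Groth.Agent.CurveCohLib.PointTwist
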