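import Groth.Agent.CurveCohLib.Skyscraper
import Groth.Agent.InvX.Tensor
import Groth.Agent.Lib.CurveSection
import Groth.Agent.SmoothReg.Scheme
import Mathlib.Combinatorics.Additive.CauchyDavenport
import Mathlib.RingTheory.DiscreteValuationRing.Basic

/-! The lemma of Hopf for sections of invertible modules on a curve. -/

noncomputable section

set_option linter.style.haveILetI false
set_option linter.unusedSectionVars false
set_option backward.isDefEq.respectTransparency false
set_option backward.isDefEq.respectTransparency.types false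

universe u

open CategoryTheory CategoryTheory.Limits AlgebraicGeometry TopologicalSpace Opposite
open scoped Pointwise

namespace Groth.Agent.CurveCohLib.Hopf

section Algebra

variable {k R : Type*} [Field k] [CommRing R] [IsDomain R] [IsDiscreteValuationRing R] [Algebra k R]

open IsDiscreteValuationRing

/-- The multiples of `x` by nonunits. -/
def above (x : R) : Submodule k R :=
  (Ideal.span {x} * IsLocalRing.maximalIdeal R).restrictScalars k

theorem mem_above {x y : R} : y ∈ above (k := k) x ↔ ∃ r ∈ IsLocalRing.maximalIdeal R, x * r = y :=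
  Ideal.mem_span_singleton_mul

theorem lt_of_mem_above {x y : R} (hy : y ∈ above (k := k) x) (hy0 : y ≠ 0) : addVal R x < addVal R y := by
  obtain ⟨r, hr, rfl⟩ := mem_above.1 hy
  refine lt_of_le_of_ne (addVal_le_iff_dvd.2 ⟨r, rfl⟩) fun h => ?_
  obtain ⟨u, hu⟩ := (addVal_eq_iff_associated _ _).1 h
  have hx0 : x ≠ 0 := fun h0 => hy0 (by rw [h0, zero_mul])
  exact (IsLocalRing.mem_maximalIdeal r).1 hr ((mul_left_cancel₀ hx0 hu) ▸ u.isUnit)

theorem mem_above_of_lt {x y : R} (h : addVal R x < addVal R y) : y ∈ above (k := k) x := by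
  obtain ⟨r, rfl⟩ := addVal_le_iff_dvd.1 h.le
  refine mem_above.2 ⟨r, (IsLocalRing.mem_maximalIdeal r).2 fun hu => h.ne ?_, rfl⟩
  exact (addVal_eq_iff_associated _ _).2 ⟨hu.unit, rfl⟩

/-- The orders of elements of `V`. -/
def HasOrd (V : Submodule k R) (n : ℕ) : Prop := ∃ x ∈ V, x ≠ 0 ∧ addVal R x = n

theorem HasOrd.mono {V W : Submodule k R} (h : V ≤ W) {n : ℕ} (hn : HasOrd V n) : HasOrd W n :=
  hn.elim fun x hx => ⟨x, h hx.1, hx.2⟩

theorem exists_ord {x : R} (hx : x ≠ 0) : ∃ n : ℕ, addVal R x = n :=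
  (WithTop.ne_top_iff_exists.1 fun h => hx (addVal_eq_top_iff.1 h)).imp fun _ h => h.symm

theorem HasOrd.mul {V W : Submodule k R} {m n : ℕ} (hm : HasOrd V m) (hn : HasOrd W n) :
    HasOrd (V * W) (m + n) := by
  obtain ⟨x, hx, hx0, hxm⟩ := hm
  obtain ⟨y, hy, hy0, hyn⟩ := hn
  exact ⟨x * y, Submodule.mul_mem_mul hx hy, mul_ne_zero hx0 hy0, by rw [addVal_mul, hxm, hyn, Nat.cast_add]⟩

/-- There are at most `dim U` orders. -/
theorem card_le_finrank : ∀ (S : Finset ℕ) (U : Submodule k R) [FiniteDimensional k U],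
    (∀ n ∈ S, HasOrd U n) → S.card ≤ Module.finrank k U := by
  intro S
  induction S using Finset.induction_on_min with
  | empty => intros; simp
  | insert a S hlt ih =>
    intro U _ hS
    have ha : a ∉ S := fun h => lt_irrefl a (hlt a h)
    obtain ⟨x, hx, hx0, hxa⟩ := hS a (Finset.mem_insert_self a S)
    haveI : FiniteDimensional k ↥(U ⊓ above x) := Submodule.finiteDimensional_of_le inf_le_left
    have h1 := ih (U ⊓ above x) fun n hn => by
      obtain ⟨y, hy, hy0, hyn⟩ := hS n (Finset.mem_insert_of_mem hn)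
      exact ⟨y, ⟨hy, mem_above_of_lt (by rw [hxa, hyn]; exact_mod_cast hlt n hn)⟩, hy0, hyn⟩
    have h2 : U ⊓ above x < U := lt_of_le_of_ne inf_le_left fun h =>
      lt_irrefl _ (lt_of_mem_above (h.symm ▸ hx : x ∈ U ⊓ above x).2 hx0)
    have := Submodule.finrank_lt_finrank_of_lt h2
    rw [Finset.card_insert_of_notMem ha]
    omega

variable (hres : ∀ r : R, ∃ c : k, r - algebraMap k R c ∈ IsLocalRing.maximalIdeal R)
include hres

/-- There are at least `dim V` orders. -/
theorem exists_ordSet (V : Submodule k R) [FiniteDimensional k V] :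
    ∃ S : Finset ℕ, (∀ n ∈ S, HasOrd V n) ∧ Module.finrank k V ≤ S.card := by
  obtain ⟨d, hd⟩ : ∃ d, Module.finrank k V = d := ⟨_, rfl⟩
  induction d using Nat.strong_induction_on generalizing V with
  | _ d ih =>
    classical
    by_cases hex : ∃ n, HasOrd V n
    swap
    · refine ⟨∅, by simp, ?_⟩
      have : V = ⊥ := (Submodule.eq_bot_iff V).2 fun x hx => by
        by_contra hx0
        obtain ⟨n, hn⟩ := exists_ord hx0
        exact hex ⟨n, x, hx, hx0, hn⟩
      subst this
      simp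
    obtain ⟨x, hx, hx0, hxn⟩ := Nat.find_spec hex
    haveI : FiniteDimensional k ↥(V ⊓ above x) := Submodule.finiteDimensional_of_le inf_le_left
    have h2 : V ⊓ above x < V := lt_of_le_of_ne inf_le_left fun h =>
      lt_irrefl _ (lt_of_mem_above (h.symm ▸ hx : x ∈ V ⊓ above x).2 hx0)
    obtain ⟨S, hS, hc⟩ := ih _ (hd ▸ Submodule.finrank_lt_finrank_of_lt h2) (V ⊓ above x) rfl
    refine ⟨insert (Nat.find hex) S, fun n hn => ?_, ?_⟩
    · obtain rfl | hn := Finset.mem_insert.1 hn
      · exact ⟨x, hx, hx0, hxn⟩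
      · exact (hS n hn).mono inf_le_left
    have hnot : Nat.find hex ∉ S := fun h => by
      obtain ⟨y, hy, hy0, hyn⟩ := hS _ h
      exact (lt_of_mem_above hy.2 hy0).ne (hxn.trans hyn.symm)
    have hV : V ≤ (V ⊓ above x) ⊔ Submodule.span k {x} := fun y hy => by
      have hle : addVal R x ≤ addVal R y := by
        by_cases hy0 : y = 0
        · rw [hy0, addVal_zero]; exact le_top
        obtain ⟨n, hn⟩ := exists_ord hy0
        rw [hxn, hn]
        exact_mod_cast Nat.find_min' hex ⟨y, hy, hy0, hn⟩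
      obtain ⟨r, rfl⟩ := addVal_le_iff_dvd.1 hle
      obtain ⟨c, hc⟩ := hres r
      have e : x * r = (x * r - c • x) + c • x := (sub_add_cancel _ _).symm
      rw [e]
      refine Submodule.add_mem_sup ⟨V.sub_mem hy (V.smul_mem c hx), mem_above.2 ⟨_, hc, ?_⟩⟩
        (Submodule.mem_span_singleton.2 ⟨c, rfl⟩)
      rw [Algebra.smul_def]; ring
    have h3 := (Submodule.finrank_mono hV).trans (Submodule.finrank_add_le_finrank_add_finrank _ _)
    rw [finrank_span_singleton hx0] at h3
    rw [Finset.card_insert_of_notMem hnot]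
    omega

/-- Hopf's inequality for subspaces of a discrete valuation ring. -/
theorem finrank_add_le (V W : Submodule k R) [FiniteDimensional k V] [FiniteDimensional k W]
    (hV : V ≠ ⊥) (hW : W ≠ ⊥) (P : Submodule k R) [FiniteDimensional k P] (hP : V * W ≤ P) :
    Module.finrank k V + Module.finrank k W ≤ Module.finrank k P + 1 := by
  classical
  obtain ⟨S, hS, hSc⟩ := exists_ordSet hres V
  obtain ⟨T, hT, hTc⟩ := exists_ordSet hres W
  have hV' : Module.finrank k V ≠ 0 := fun h => hV (Submodule.finrank_eq_zero.1 h)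
  have hW' : Module.finrank k W ≠ 0 := fun h => hW (Submodule.finrank_eq_zero.1 h)
  have h1 := cauchy_davenport_add_of_linearOrder_isCancelAdd (s := S) (t := T)
    (Finset.card_pos.1 (by omega)) (Finset.card_pos.1 (by omega))
  have h2 := card_le_finrank (S + T) P fun n hn => by
    obtain ⟨a, ha, b, hb, rfl⟩ := Finset.mem_add.1 hn
    exact ((hS a ha).mul (hT b hb)).mono hP
  omega

end Algebra

section Germ

variable {X : Scheme.{u}}

open MonoidalCategory TensorProduct in
/-- Germs of tensors of sections. -/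
theorem germ_tmul {M N : X.Modules} {U : X.Opens} {x : X} (hx : x ∈ U) (σ : Γ(M, ⊤)) (τ : Γ(N, ⊤))
    (a : Γ(M, U)) (b : Γ(N, U)) {c d : X.presheaf.stalk x}
    (hc : M.presheaf.germ ⊤ x trivial σ = c • M.presheaf.germ U x hx a)
    (hd : N.presheaf.germ ⊤ x trivial τ = d • N.presheaf.germ U x hx b) :
    (CohB1.tensorMod M N).presheaf.germ ⊤ x trivial (InvX.tmul σ τ) =
      c • d • (CohB1.tensorMod M N).presheaf.germ U x hx (InvX.tmul a b) := by
  let P := CohB1.toPMod M
  let Q := CohB1.toPMod N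
  let ψ := ((KFlatLib.stalkP x).map (KFlatLib.unitShP (P ⊗ Q))).hom ∘ₗ
    (KFlatLib.tensorStalkEquiv P Q).toLinearMap
  have key : ∀ (V : X.Opens) (hV : x ∈ V) (p : Γ(M, V)) (q : Γ(N, V)),
      ψ (KFlatLib.germP P V hV p ⊗ₜ KFlatLib.germP Q V hV q) =
      (CohB1.tensorMod M N).presheaf.germ V x hV (InvX.tmul p q) := fun V hV p q =>
    (congrArg ((KFlatLib.stalkP x).map (KFlatLib.unitShP (P ⊗ Q))).hom (KFlatLib.ofTensor_germ V hV _ _)).trans
      (KFlatLib.stalkModMap_germ _ V hV _)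
  rw [← key, ← key]
  have hc' : KFlatLib.germP P ⊤ trivial σ = c • KFlatLib.germP P U hx a := hc
  have hd' : KFlatLib.germP Q ⊤ trivial τ = d • KFlatLib.germP Q U hx b := hd
  rw [hc', hd']
  refine (congrArg ψ ((TensorProduct.smul_tmul' c _ _).symm.trans
    (congrArg (c • ·) (TensorProduct.tmul_smul d _ _)))).trans ?_
  exact (map_smul ψ c _).trans (congrArg (c • ·) (map_smul ψ d _))

/-- A section of an invertible module on an integral scheme with zero germ vanishes. -/
theorem eq_zero_of_germ_eq_zero [IsIntegral X] {L : X.Modules} (hL : PicF.IsInvertible L) (s : Γ(L, ⊤))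
    {x : X} (h : L.presheaf.germ ⊤ x trivial s = 0) : s = 0 := by
  obtain ⟨W, hxW, i, j, hij⟩ := TopCat.Presheaf.germ_eq (C := AddCommGrpCat.{u}) L.presheaf (U := ⊤) (V := ⊤) x
    (trivial : x ∈ (⊤ : X.Opens)) (trivial : x ∈ (⊤ : X.Opens)) s 0 (h.trans (map_zero _).symm)
  change AModX.res L i.le s = AModX.res L j.le 0 at hij
  rw [map_zero] at hij
  refine AModX.eq_of_locally _ _ fun y _ => ?_
  obtain ⟨U, hyU, e, he⟩ := InvX.exists_frame hL y
  refine ⟨U, le_top, hyU, ?_⟩
  obtain ⟨g, hg⟩ := he.exists_coord le_rfl (AModX.res L (le_top : U ≤ ⊤) s)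
  rw [AModX.res_self] at hg
  obtain ⟨z, hz⟩ := nonempty_preirreducible_inter U.2 W.2 ⟨y, hyU⟩ ⟨x, hxW⟩
  have h1 := congrArg (AModX.res L (inf_le_left : U ⊓ W ≤ U)) hg
  rw [AModX.res_res, AModX.res_smul] at h1
  have h2 := congrArg (AModX.res L (inf_le_right : U ⊓ W ≤ W)) hij
  rw [AModX.res_res, map_zero] at h2
  have hg0 : AModX.resR (inf_le_left : U ⊓ W ≤ U) g = 0 :=
    he.coord_unique (inf_le_left : U ⊓ W ≤ U) (h1.symm.trans (h2.trans (zero_smul _ _).symm))
  have : g = 0 := (map_eq_zero_iff (X.presheaf.germ U z hz.1).hom (germ_injective_of_isIntegral (X := X) z hz.1)).1 <| by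
    rw [← InvX.germ_resR' (inf_le_left : U ⊓ W ≤ U) (show z ∈ U ⊓ W from hz) g, hg0, map_zero]
  rw [hg, this, zero_smul, map_zero]

end Germ

variable (k : Type u) [Field k] {X : Scheme.{u}} [X.Over (Spec (CommRingCat.of k))]

/-- The coordinates of the global sections in a frame at a point. -/
theorem exists_coordLin [IsIntegral X] {L : X.Modules} {U : X.Opens} {e : Γ(L, U)} (he : InvX.IsFrame e)
    (hL : PicF.IsInvertible L) {x : X} (hx : x ∈ U) :
    letI := (Curv2.stalkMap k X x).toAlgebra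
    ∃ Φ : Coh.HH X L 0 →ₗ[k] X.presheaf.stalk x, Function.Injective Φ ∧
      ∀ t, Φ t • L.presheaf.germ U x hx e =
        L.presheaf.germ ⊤ x trivial (Sheaf.H.equiv₀ (Coh.toAb L) isTerminalTop t : Γ(L, ⊤)) := by
  letI := (Curv2.stalkMap k X x).toAlgebra
  let c := fun t : Coh.HH X L 0 => (Equiv.ofBijective _ (he.germ_bijective hx)).symm
    (L.presheaf.germ ⊤ x trivial (Sheaf.H.equiv₀ (Coh.toAb L) isTerminalTop t : Γ(L, ⊤)))
  have hc : ∀ t, c t • L.presheaf.germ U x hx e =
      L.presheaf.germ ⊤ x trivial (Sheaf.H.equiv₀ (Coh.toAb L) isTerminalTop t : Γ(L, ⊤)) := fun t =>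
    Equiv.ofBijective_apply_symm_apply _ (he.germ_bijective hx) _
  let Φ : Coh.HH X L 0 →ₗ[k] X.presheaf.stalk x :=
    { toFun := c
      map_add' := fun a b => (he.germ_bijective hx).1 <| by
        dsimp only
        rw [add_smul, hc, hc, hc]
        exact (congrArg (L.presheaf.germ ⊤ x trivial) (map_add (Sheaf.H.equiv₀ (Coh.toAb L) isTerminalTop) a b)).trans (map_add _ _ _)
      map_smul' := fun a t => (he.germ_bijective hx).1 <| by
        dsimp only [RingHom.id_apply]
        rw [Algebra.smul_def, mul_smul, hc, hc]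
        exact germ_h0Equiv_smul L a t x }
  refine ⟨Φ, (injective_iff_map_eq_zero Φ).2 fun t ht => ?_, hc⟩
  apply (Sheaf.H.equiv₀ (Coh.toAb L) isTerminalTop).injective
  rw [map_zero]
  refine eq_zero_of_germ_eq_zero hL _ (x := x) ?_
  rw [← hc t, show c t = 0 from ht, zero_smul]

variable [IsAlgClosed k] [IsIntegral X] [IsProper (X ↘ Spec (CommRingCat.of k))]

/-- The lemma of Hopf. -/
theorem finrank_tensor (hdim : topologicalKrullDim X = 1) {P : X} (hP : IsClosed ({P} : Set X))
    [IsRegularLocalRing (X.presheaf.stalk P)]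
    {L L' : X.Modules} (hL : PicF.IsInvertible L) (hL' : PicF.IsInvertible L')
    (hs : Nontrivial (Coh.HH X L 0)) (hs' : Nontrivial (Coh.HH X L' 0)) :
    Module.finrank k (Coh.HH X L 0) + Module.finrank k (Coh.HH X L' 0) ≤
      Module.finrank k (Coh.HH X (CohB1.tensorMod L L') 0) + 1 := by
  haveI := CurveCohLib.isNoetherian_of_proper (k := k) (X := X)
  have hd : ringKrullDim (X.presheaf.stalk P) = 1 :=
    (SmoothReg.ringKrullDim_stalk_closedPoint (X ↘ Spec (CommRingCat.of k)) hP).trans hdim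
  haveI : IsDiscreteValuationRing (X.presheaf.stalk P) := by
    refine IsLocalRing.finrank_CotangentSpace_eq_one_iff.mp ?_
    have hreg : IsRegularLocalRing (X.presheaf.stalk P) := inferInstance
    rw [IsRegularLocalRing.iff_finrank_cotangentSpace, hd] at hreg
    exact_mod_cast hreg
  letI := (Curv2.stalkMap k X P).toAlgebra
  obtain ⟨U₁, hU₁, e₁, he₁⟩ := InvX.exists_frame hL P
  obtain ⟨U₂, hU₂, e₂, he₂⟩ := InvX.exists_frame hL' P
  have hPU : P ∈ U₁ ⊓ U₂ := ⟨hU₁, hU₂⟩
  have ha := he₁.res (inf_le_left : U₁ ⊓ U₂ ≤ U₁)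
  have hb := he₂.res (inf_le_right : U₁ ⊓ U₂ ≤ U₂)
  have hT : PicF.IsInvertible (CohB1.tensorMod L L') := InvX.isInvertible_tensorMod hL hL'
  obtain ⟨Φ, hΦ, hΦ'⟩ := exists_coordLin k ha hL hPU
  obtain ⟨Ψ, hΨ, hΨ'⟩ := exists_coordLin k hb hL' hPU
  obtain ⟨Ξ, hΞ, hΞ'⟩ := exists_coordLin k (InvX.isFrame_tmul ha hb) hT hPU
  haveI := CurveCohLib.finite_HH (k := k) (CurveDeg.isCoh_of_isInvertible hL) 0
  haveI := CurveCohLib.finite_HH (k := k) (CurveDeg.isCoh_of_isInvertible hL') 0
  haveI := CurveCohLib.finite_HH (k := k) (CurveDeg.isCoh_of_isInvertible hT) 0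
  have hne : ∀ {M : Type u} [AddCommGroup M] [Module k M] [Nontrivial M] (f : M →ₗ[k] X.presheaf.stalk P),
      Function.Injective f → LinearMap.range f ≠ ⊥ := by
    intro M _ _ _ f hf h
    obtain ⟨m, hm⟩ := exists_ne (0 : M)
    exact hm (hf (by rw [map_zero]; exact (Submodule.mem_bot k).1 (h ▸ LinearMap.mem_range_self f m)))
  have key := finrank_add_le (CurveSection.exists_stalkMap_sub_mem k hP) (LinearMap.range Φ) (LinearMap.range Ψ)
    (hne Φ hΦ) (hne Ψ hΨ) (LinearMap.range Ξ) (Submodule.mul_le.2 ?_)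
  · rwa [LinearMap.finrank_range_of_inj hΦ, LinearMap.finrank_range_of_inj hΨ,
      LinearMap.finrank_range_of_inj hΞ] at key
  rintro _ ⟨s, rfl⟩ _ ⟨t, rfl⟩
  set a : Γ(L, U₁ ⊓ U₂) := AModX.res L inf_le_left e₁
  set b : Γ(L', U₁ ⊓ U₂) := AModX.res L' inf_le_right e₂
  let σ : Γ(L, ⊤) := Sheaf.H.equiv₀ (Coh.toAb L) isTerminalTop s
  let τ : Γ(L', ⊤) := Sheaf.H.equiv₀ (Coh.toAb L') isTerminalTop t
  refine ⟨(Sheaf.H.equiv₀ (Coh.toAb (CohB1.tensorMod L L')) isTerminalTop).symm (InvX.tmul σ τ),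
    ((InvX.isFrame_tmul ha hb).germ_bijective hPU).1 ?_⟩
  dsimp only
  rw [hΞ', AddEquiv.apply_symm_apply, mul_smul]
  exact germ_tmul hPU σ τ a b (hΦ' s).symm (hΨ' t).symm

end Groth.Agent.CurveCohLib.Hopf
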