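import Groth.Agent.ConsPropLib.FibreLocFreeRank
import Groth.Agent.KFlatLib.Scheme.Exact
import Groth.Agent.SmoothReg.Scheme
import Groth.Agent.DimFormula.DedekindFlat
import Groth.Agent.QCoh.LocFree
import Groth.Agent.Lib.InvEnd

/-! # Subsheaves of locally free modules on curves -/

set_option autoImplicit false
set_option linter.style.haveILetI false
set_option linter.unusedSectionVars false

universe u
open CategoryTheory CategoryTheory.Limits AlgebraicGeometry TopologicalSpace

namespace Groth.Agent.CurveCohLib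

variable {X : Scheme.{u}}

theorem ringKrullDim_stalk_le_topologicalKrullDim (x : X) :
    ringKrullDim (X.presheaf.stalk x) ≤ topologicalKrullDim X := by
  rw [ringKrullDim_stalk_eq_coheight, topologicalKrullDim,
    Order.krullDim_eq_of_orderIso (irreducibleSetEquivPoints (α := X))]
  exact Order.coheight_le_krullDim x

theorem isPrincipalIdealRing_stalk_of_smooth {k : Type u} [Field k] (f : X ⟶ Spec (CommRingCat.of k)) [Smooth f]
    (hdim : topologicalKrullDim X ≤ 1) (x : X) : IsPrincipalIdealRing (X.presheaf.stalk x) := by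
  haveI := SmoothReg.isRegularLocalRing_stalk_of_mem_smoothLocus f (x := x)
    (by rw [f.smoothLocus_eq_top]; trivial)
  exact DimFormula.isPrincipalIdealRing_of_regular_dim_le_one ((ringKrullDim_stalk_le_topologicalKrullDim x).trans hdim)

/-- Stalks of a monomorphism are injective. -/
theorem stalk_injective {M N : X.Modules} (f : M ⟶ N) [Mono f] (x : X) :
    Function.Injective ((DerSch.stalkFunctor X x).map f).hom :=
  (ModuleCat.mono_iff_injective _).1 inferInstance

variable [IsIntegral X] [IsLocallyNoetherian X]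

theorem free_stalk_of_mono {G E : X.Modules} (i : G ⟶ E) [Mono i] (hG : Coh.IsCoh G)
    (hE : FlatMod.IsFinLocFree E) (x : X) [IsPrincipalIdealRing (X.presheaf.stalk x)] :
    Module.Free (X.presheaf.stalk x) (G.presheaf.stalk x) := by
  haveI : Module.Finite (X.presheaf.stalk x) (G.presheaf.stalk x) :=
    QCoh.finite_stalk_of_isFT hG.1 (QCoh.isFT_of_isFP (QCoh.isCoh_iff_isFP.1 hG)) x
  haveI := QCoh.free_stalk_of_isFinLocFree hE x
  let g : G.presheaf.stalk x →ₗ[X.presheaf.stalk x] E.presheaf.stalk x := ((DerSch.stalkFunctor X x).map i).hom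
  have hg : Function.Injective g := stalk_injective i x
  haveI : Module.IsTorsionFree (X.presheaf.stalk x) (G.presheaf.stalk x) :=
    hg.moduleIsTorsionFree _ (fun r m => map_smul g r m)
  exact Module.free_of_finite_type_torsion_free'

/-- The rank at the generic point. -/
noncomputable abbrev genRank (M : X.Modules) : ℕ :=
  Module.finrank (X.presheaf.stalk (genericPoint X)) (M.presheaf.stalk (genericPoint X))

theorem isFinLocFreeOfRank_genRank {G : X.Modules} (hG : FlatMod.IsFinLocFree G) :
    FlatMod.IsFinLocFreeOfRank (genRank G) G :=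
  ConsPropLib.isFinLocFreeOfRank_iff.2 ⟨hG, fun _ => (QCoh.isLocallyConstant_rank hG).apply_eq_of_preconnectedSpace _ _⟩

theorem genRank_eq {r : ℕ} {E : X.Modules} (hE : FlatMod.IsFinLocFreeOfRank r E) : genRank E = r :=
  (ConsPropLib.isFinLocFreeOfRank_iff.1 hE).2 _

/-- A coherent subsheaf of a locally free sheaf on a regular curve is locally free. -/
theorem isFinLocFreeOfRank_of_mono (hpid : ∀ x : X, IsPrincipalIdealRing (X.presheaf.stalk x)) {G E : X.Modules}
    (i : G ⟶ E) [Mono i] (hG : Coh.IsCoh G) (hE : FlatMod.IsFinLocFree E) :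
    FlatMod.IsFinLocFreeOfRank (genRank G) G :=
  isFinLocFreeOfRank_genRank (QCoh.isFinLocFree_iff.2 ⟨QCoh.isCoh_iff_isFP.1 hG, fun x =>
    haveI := hpid x
    free_stalk_of_mono i hG hE x⟩)

/-- Generic ranks add up in short exact sequences. -/
theorem genRank_add {S : ShortComplex X.Modules} (hS : S.ShortExact) (h₂ : Coh.IsCoh S.X₂) :
    genRank S.X₂ = genRank S.X₁ + genRank S.X₃ := by
  let R := X.presheaf.stalk (genericPoint X)
  have hx := (KFlatLib.shortExact_iff_stalk S).1 hS (genericPoint X)
  haveI : Module.Finite R (S.X₂.presheaf.stalk (genericPoint X)) :=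
    QCoh.finite_stalk_of_isFT h₂.1 (QCoh.isFT_of_isFP (QCoh.isCoh_iff_isFP.1 h₂)) _
  let f : S.X₁.presheaf.stalk (genericPoint X) →ₗ[R] S.X₂.presheaf.stalk (genericPoint X) :=
    (S.map (DerSch.stalkFunctor X (genericPoint X))).f.hom
  let g : S.X₂.presheaf.stalk (genericPoint X) →ₗ[R] S.X₃.presheaf.stalk (genericPoint X) :=
    (S.map (DerSch.stalkFunctor X (genericPoint X))).g.hom
  have hf : Function.Injective f := hx.moduleCat_injective_f
  have hg : Function.Surjective g := hx.moduleCat_surjective_g
  have hker : LinearMap.ker g = LinearMap.range f := hx.exact.moduleCat_range_eq_ker.symm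
  have h := Submodule.finrank_quotient_add_finrank (LinearMap.ker g)
  rw [hker, LinearMap.finrank_range_of_inj hf, ← hker,
    (LinearMap.quotKerEquivOfSurjective g hg).finrank_eq] at h
  show Module.finrank R _ = Module.finrank R _ + Module.finrank R _
  omega

theorem isZero_of_isFinLocFreeOfRank_zero {M : X.Modules} (hM : FlatMod.IsFinLocFreeOfRank 0 M) : IsZero M := by
  obtain ⟨hM', hr⟩ := ConsPropLib.isFinLocFreeOfRank_iff.1 hM
  refine KFlatLib.isZero_of_stalk M fun x => ?_
  haveI := QCoh.free_stalk_of_isFinLocFree hM' x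
  haveI : Module.Finite (X.presheaf.stalk x) (M.presheaf.stalk x) :=
    QCoh.finite_stalk_of_isFT (QCoh.isQCoh_of_isFinLocFree hM') (QCoh.isFT_of_isFP (QCoh.isFP_of_isFinLocFree hM')) x
  haveI : Subsingleton (M.presheaf.stalk x) := Module.finrank_zero_iff.1 (hr x)
  exact @ModuleCat.isZero_of_subsingleton _ _ ((DerSch.stalkFunctor X x).obj M) this

end Groth.Agent.CurveCohLib
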