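import Groth.Agent.QCoh.ProperFinite
import Groth.Agent.QCoh.Bound
import Groth.Prelude.Def_CurvBase

/-!
# Additivity of the Euler characteristic over a field
-/

universe u

set_option backward.isDefEq.respectTransparency false
set_option backward.isDefEq.respectTransparency.types false

open CategoryTheory CategoryTheory.Limits AlgebraicGeometry TopologicalSpace Opposite
open CategoryTheory.Abelian
open Groth.Agent.PnCoh.Finite (mapLin deltaLin)

namespace Groth.Agent.CurveCohLib

open Groth.Agent.QCoh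

variable {X : Scheme.{u}} {S : ShortComplex X.Modules}

section Exact

variable (A : Type u) [CommRing A] [X.Over (Spec (CommRingCat.of A))]

theorem mapLin_comp_eq_zero (n : ℕ) (y : Coh.HH X S.X₁ n) : mapLin A S.g n (mapLin A S.f n y) = 0 := by
  show Sheaf.H.map _ n (Sheaf.H.map _ n y) = 0
  refine (Groth.Agent.PnCoh.Finite.map_map (Y := X.toPresheafedSpace.carrier)
    (((toAbFunctor X).map_comp S.f S.g).symm.trans (by rw [S.zero, Functor.map_zero])) n y).trans ?_
  show ((Sheaf.functorH _ n).map 0).hom y = 0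
  rw [Functor.map_zero]
  rfl

theorem ker_mapLin_g (hS : S.ShortExact) (n : ℕ) :
    LinearMap.ker (mapLin A S.g n) = LinearMap.range (mapLin A S.f n) := by
  have hT := toAb_shortExact hS
  refine le_antisymm (fun x hx => Ext.covariant_sequence_exact₂ _ hT x hx) ?_
  rintro _ ⟨y, rfl⟩
  exact LinearMap.mem_ker.2 (mapLin_comp_eq_zero A n y)

theorem ker_mapLin_f_succ (hS : S.ShortExact) (n : ℕ) :
    LinearMap.ker (mapLin A S.f (n + 1)) = LinearMap.range (deltaLin A hS n) := by
  have hT := toAb_shortExact hS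
  refine le_antisymm (fun x hx => Ext.covariant_sequence_exact₁ _ hT x hx rfl) ?_
  rintro _ ⟨y, rfl⟩
  refine LinearMap.mem_ker.2 ?_
  show ((y.comp hT.extClass rfl).comp (Ext.mk₀ ((toAbFunctor X).map S.f)) (add_zero _)) = 0
  rw [Ext.comp_assoc_of_third_deg_zero]
  exact (congrArg (fun z => Ext.comp y z _) hT.extClass_comp).trans (Ext.comp_zero _ _ _ _ _)

theorem ker_deltaLin (hS : S.ShortExact) (n : ℕ) :
    LinearMap.ker (deltaLin A hS n) = LinearMap.range (mapLin A S.g n) := by
  refine le_antisymm (fun x hx => PnCoh.Finite.exists_of_deltaLin_eq_zero A hS n (LinearMap.mem_ker.1 hx)) ?_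
  rintro _ ⟨y, rfl⟩
  exact LinearMap.mem_ker.2 ((QCoh.Ab.connecting_eq_zero_iff
    (X := X.toPresheafedSpace.carrier) (QCoh.toAb_shortExact hS) n _).2 ⟨y, rfl⟩)

theorem mapLin_f_zero_injective (hS : S.ShortExact) : Function.Injective (mapLin A S.f 0) := fun x y hxy => by
  apply (Sheaf.H.equiv₀ (Coh.toAb S.X₁) isTerminalTop).injective
  refine app_f_injective hS ⊤ ?_
  have hx := Sheaf.H.equiv₀_naturality isTerminalTop ((toAbFunctor X).map S.f) x
  have hy := Sheaf.H.equiv₀_naturality isTerminalTop ((toAbFunctor X).map S.f) y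
  exact hx.trans ((congrArg (Sheaf.H.equiv₀ (Coh.toAb S.X₂) isTerminalTop) hxy).trans hy.symm)

end Exact

variable {k : Type u} [Field k] [X.Over (Spec (CommRingCat.of k))]

/-- The Euler characteristic as a finite sum. -/
theorem euler_eq_sum {M : X.Modules} {N : ℕ} (h : ∀ i, N ≤ i → Subsingleton (Coh.HH X M i)) :
    Curv2.euler k X M = ∑ i ∈ Finset.range N, (-1 : ℤ) ^ i * (Module.finrank k (Coh.HH X M i) : ℤ) := by
  refine finsum_eq_sum_of_support_subset _ fun i hi => ?_
  by_contra hN
  have := h i (by simpa using hN)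
  exact hi (by simp [Module.finrank_zero_of_subsingleton])

/-- Additivity, given finiteness and vanishing in high degrees. -/
theorem euler_additive_of_finite (hS : S.ShortExact)
    (hfin₁ : ∀ n, Module.Finite k (Coh.HH X S.X₁ n)) (hfin₂ : ∀ n, Module.Finite k (Coh.HH X S.X₂ n))
    (hfin₃ : ∀ n, Module.Finite k (Coh.HH X S.X₃ n)) {N : ℕ}
    (h₁ : ∀ i, N ≤ i → Subsingleton (Coh.HH X S.X₁ i)) (h₂ : ∀ i, N ≤ i → Subsingleton (Coh.HH X S.X₂ i))
    (h₃ : ∀ i, N ≤ i → Subsingleton (Coh.HH X S.X₃ i)) :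
    Curv2.euler k X S.X₂ = Curv2.euler k X S.X₁ + Curv2.euler k X S.X₃ := by
  let d : ℕ → ℤ := fun n => Module.finrank k (LinearMap.ker (mapLin k S.f n))
  have key : ∀ n, (Module.finrank k (Coh.HH X S.X₁ n) : ℤ) + Module.finrank k (Coh.HH X S.X₃ n) -
      Module.finrank k (Coh.HH X S.X₂ n) = d n + d (n + 1) := by
    intro n
    have := hfin₁ n
    have := hfin₂ n
    have := hfin₃ n
    have e1 := LinearMap.finrank_range_add_finrank_ker (mapLin k S.f n)
    have e2 := LinearMap.finrank_range_add_finrank_ker (mapLin k S.g n)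
    have e3 := LinearMap.finrank_range_add_finrank_ker (deltaLin k hS n)
    rw [ker_mapLin_g k hS n] at e2
    rw [ker_deltaLin k hS n, ← ker_mapLin_f_succ k hS n] at e3
    simp only [d]
    omega
  have hd0 : d 0 = 0 := by
    simp only [d, Int.natCast_eq_zero]
    rw [LinearMap.ker_eq_bot.2 (mapLin_f_zero_injective k hS), finrank_bot]
  have hdN : ∀ i, N ≤ i → d i = 0 := fun i hi => by
    have := h₁ i hi
    simp [d, Module.finrank_zero_of_subsingleton]
  have tele : ∀ M : ℕ, ∑ i ∈ Finset.range M, (-1 : ℤ) ^ i * (d i + d (i + 1)) = d 0 - (-1) ^ M * d M := by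
    intro M
    induction M with
    | zero => simp
    | succ M ih => rw [Finset.sum_range_succ, ih, pow_succ]; ring
  have hsum := tele N
  simp only [← key, hd0, hdN N le_rfl, mul_zero, sub_zero, mul_sub, mul_add, Finset.sum_sub_distrib,
    Finset.sum_add_distrib, sub_eq_zero] at hsum
  rw [euler_eq_sum h₁, euler_eq_sum h₂, euler_eq_sum h₃, hsum]

/-- Additivity on a quasi-compact separated scheme for quasi-coherent modules with finite cohomology. -/
theorem euler_additive_of_isQCoh [CompactSpace X] [QuasiSeparatedSpace X] (hS : S.ShortExact)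
    (hq₁ : Coh.IsQCoh S.X₁) (hq₂ : Coh.IsQCoh S.X₂) (hq₃ : Coh.IsQCoh S.X₃)
    (hfin₁ : ∀ n, Module.Finite k (Coh.HH X S.X₁ n)) (hfin₂ : ∀ n, Module.Finite k (Coh.HH X S.X₂ n))
    (hfin₃ : ∀ n, Module.Finite k (Coh.HH X S.X₃ n)) :
    Curv2.euler k X S.X₂ = Curv2.euler k X S.X₁ + Curv2.euler k X S.X₃ := by
  obtain ⟨N, hN⟩ := exists_HH_bound (X := X)
  exact euler_additive_of_finite hS hfin₁ hfin₂ hfin₃ (hN _ hq₁) (hN _ hq₂) (hN _ hq₃)

end Groth.Agent.CurveCohLib
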