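import Groth.Agent.CurveCohLib.PointTwist
import Groth.Agent.CurveCohLib.Hopf

/-! Sections with germ in the maximal ideal give sections of the twist by the point. -/

noncomputable section

set_option linter.style.haveILetI false
set_option linter.unusedSectionVars false
set_option backward.isDefEq.respectTransparency false
set_option backward.isDefEq.respectTransparency.types false

universe u

open CategoryTheory CategoryTheory.Limits AlgebraicGeometry TopologicalSpace Opposite
open Groth.Agent.PnCoh.Finite (mapLin)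

namespace Groth.Agent.CurveCohLib.GermTwist

open Groth.Agent.CurveBundle Groth.Agent.CurveSlope Groth.Agent.CurveStable

variable {X : Scheme.{u}} (k : Type u) [Field k] [X.Over (Spec (CommRingCat.of k))]
  [IsIntegral X] [IsProper (X ↘ Spec (CommRingCat.of k))]

include k in
/-- A nonzero section whose germ lies in `m • G_p` comes from the twist. -/
theorem nontrivial_of_germ_mem {G : X.Modules} (hG : FlatMod.IsFinLocFree G) (p : X) (hp : IsClosed ({p} : Set X))
    {σ : Coh.HH X G 0} (hσ : σ ≠ 0)
    (h : G.presheaf.germ ⊤ p trivial (Sheaf.H.equiv₀ (Coh.toAb G) isTerminalTop σ : Γ(G, ⊤)) ∈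
      IsLocalRing.maximalIdeal (X.presheaf.stalk p) •
        (⊤ : Submodule (X.presheaf.stalk p) (G.presheaf.stalk p))) :
    Nontrivial (Coh.HH X ((DCoh.tensorBi.obj G).obj (CurvePoint.ptMod p hp)) 0) := by
  have hS := CurveTensor.shortExact_tensor hG _ _ _ (CurvePoint.shortExact_pt p hp)
  let π := (DCoh.tensorBi.obj G).map (ClSub.toSubscheme (CurvePoint.ptIdeal p hp))
  let u := KFlatLib.tensorUnitIso G
  let t := mapLin k u.inv 0 σ
  have ht : t ≠ 0 := fun h0 => hσ ((CurveCohLib.hhEquiv (k := k) u.symm 0).injective (h0.trans (map_zero _).symm))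
  have hπ : mapLin k π 0 t = 0 := by
    refine (Sheaf.H.equiv₀ (Coh.toAb ((DCoh.tensorBi.obj G).obj
      (ClSub.quotMod (CurvePoint.ptIdeal p hp)))) isTerminalTop).injective ?_
    rw [map_zero]
    refine (Sheaf.H.equiv₀_naturality isTerminalTop ((QCoh.toAbFunctor X).map π) t).symm.trans ?_
    refine TopCat.Presheaf.section_ext ⟨((DCoh.tensorBi.obj G).obj (ClSub.quotMod (CurvePoint.ptIdeal p hp))).presheaf,
      ((DCoh.tensorBi.obj G).obj (ClSub.quotMod (CurvePoint.ptIdeal p hp))).isSheaf⟩ ⊤ _ _ fun y _ => ?_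
    change ((DCoh.tensorBi.obj G).obj (ClSub.quotMod (CurvePoint.ptIdeal p hp))).presheaf.germ ⊤ y trivial
      (π.app ⊤ (Sheaf.H.equiv₀ (Coh.toAb ((DCoh.tensorBi.obj G).obj (Coh.structureModule X))) isTerminalTop t)) =
        ((DCoh.tensorBi.obj G).obj (ClSub.quotMod (CurvePoint.ptIdeal p hp))).presheaf.germ ⊤ y trivial 0
    rw [map_zero]
    by_cases hy : y = p
    · subst hy
      let F := DerSch.stalkFunctor X y
      refine (TopCat.Presheaf.stalkFunctor_map_germ_apply ⊤ _ trivial ((Scheme.Modules.toPresheaf X).map π) _).symm.trans ?_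
      let g : F.obj ((DCoh.tensorBi.obj G).obj (Coh.structureModule X)) :=
        ((DCoh.tensorBi.obj G).obj (Coh.structureModule X)).presheaf.germ ⊤ y trivial
          (Sheaf.H.equiv₀ (Coh.toAb ((DCoh.tensorBi.obj G).obj (Coh.structureModule X))) isTerminalTop t)
      change (F.map π).hom g = 0
      have hinv : g = (F.map u.inv).hom (G.presheaf.germ ⊤ y trivial
          (Sheaf.H.equiv₀ (Coh.toAb G) isTerminalTop σ : Γ(G, ⊤))) :=
        ((TopCat.Presheaf.stalkFunctor_map_germ_apply ⊤ _ trivial ((Scheme.Modules.toPresheaf X).map u.inv) _).trans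
          (congrArg (((DCoh.tensorBi.obj G).obj (Coh.structureModule X)).presheaf.germ ⊤ y trivial)
            (Sheaf.H.equiv₀_naturality isTerminalTop ((QCoh.toAbFunctor X).map u.inv) σ))).symm
      rw [hinv]
      generalize G.presheaf.germ ⊤ y trivial (Sheaf.H.equiv₀ (Coh.toAb G) isTerminalTop σ : Γ(G, ⊤)) = v at h ⊢
      refine Submodule.smul_induction_on (p := fun v => (F.map π).hom ((F.map u.inv).hom v) = 0) h
        (fun a ha m _ => ?_) fun a b ha hb => ?_
      · rw [map_smul, map_smul]
        exact CurvePoint.smul_tensor_eq_zero y hp ha _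
      · rw [map_add, map_add, ha, hb, add_zero]
    · exact CurveCohLib.germ_eq_zero_of_notMem_support (U := ⊤) _ trivial fun hs =>
        hy (Set.mem_singleton_iff.1 (CurvePoint.support_quot_subset p hp (CurveTensor.support_tensor_subset hs)))
  obtain ⟨x, hx⟩ := (CurveCohLib.ker_mapLin_g k hS 0).le (LinearMap.mem_ker.2 hπ)
  exact ⟨x, 0, fun h0 => ht (by rw [← hx, h0]; exact map_zero _)⟩

include k in
/-- A nonzero section of an invertible module of nonzero degree has a zero. -/
theorem exists_zero (hdim : topologicalKrullDim X = 1) {Q : X.Modules} (hQ : PicF.IsInvertible Q)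
    (hd : Curv2.deg k X Q 1 ≠ 0) {τ : Coh.HH X Q 0} (hτ : τ ≠ 0) :
    ∃ p : X, IsClosed ({p} : Set X) ∧
      Q.presheaf.germ ⊤ p trivial (Sheaf.H.equiv₀ (Coh.toAb Q) isTerminalTop τ : Γ(Q, ⊤)) ∈
        IsLocalRing.maximalIdeal (X.presheaf.stalk p) •
          (⊤ : Submodule (X.presheaf.stalk p) (Q.presheaf.stalk p)) := by
  haveI := CurveCohLib.isNoetherian_of_proper (k := k) (X := X)
  by_contra hcon
  push Not at hcon
  have hφ := CurveSpecial.homOfClass_ne_zero hτ
  set φ := CurveSpecial.homOfClass τ with hφdef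
  haveI : Mono φ := InvEnd.mono_of_ne_zero CurveDeg.isInvertible_structureModule hQ φ hφ
  have hCc : Coh.IsCoh (cokernel φ) := QCoh.isCoh_cokernel
    (QCoh.isCoh_structureModule' (X := X)).1 (CurveDeg.isCoh_of_isInvertible hQ) φ
  have hrk : rk (cokernel φ) = 0 :=
    (Nonspecial.section_of_sub k (CurveDeg.isCoh_of_isInvertible hQ) hQ (𝟙 Q) φ hφ).2
  have hz : IsZero (cokernel φ) := CurveCohLib.isZero_of_subsingleton_stalks fun x => by
    by_contra hx
    have hxc : IsClosed ({x} : Set X) := by
      by_contra hxc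
      obtain rfl := CurveCohLib.eq_genericPoint_of_not_isClosed hdim hxc
      letI := (isField_stalk_generic (X := X)).toField
      haveI := finite_stalk_of_coh hCc (genericPoint X)
      exact hx (Module.finrank_zero_iff.1 hrk)
    refine hx (subsingleton_of_forall_eq 0 fun z => ?_)
    haveI : Epi ((DerSch.stalkFunctor X x).map (cokernel.π φ)) := inferInstance
    obtain ⟨q, rfl⟩ := (ModuleCat.epi_iff_surjective ((DerSch.stalkFunctor X x).map (cokernel.π φ))).1 inferInstance z
    obtain ⟨U, hxU, e, he⟩ := InvX.exists_frame hQ x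
    obtain ⟨a, ha⟩ := (he.germ_bijective hxU).2
      (Q.presheaf.germ ⊤ x trivial (Sheaf.H.equiv₀ (Coh.toAb Q) isTerminalTop τ : Γ(Q, ⊤)))
    obtain ⟨b, hb⟩ := (he.germ_bijective hxU).2 q
    have hau : IsUnit a := by
      by_contra hau
      refine hcon x hxc ?_
      rw [← ha]
      exact Submodule.smul_mem_smul ((IsLocalRing.mem_maximalIdeal a).2 hau) Submodule.mem_top
    let one : (DerSch.stalkFunctor X x).obj (Coh.structureModule X) :=
      (Coh.structureModule X).presheaf.germ ⊤ x trivial (H23.Frame.one ⊤)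
    have h1 : ((DerSch.stalkFunctor X x).map φ).hom one =
        (show (DerSch.stalkFunctor X x).obj Q from
          Q.presheaf.germ ⊤ x trivial (Sheaf.H.equiv₀ (Coh.toAb Q) isTerminalTop τ : Γ(Q, ⊤))) :=
      (TopCat.Presheaf.stalkFunctor_map_germ_apply ⊤ x trivial ((Scheme.Modules.toPresheaf X).map φ) _).trans
        (congrArg (Q.presheaf.germ ⊤ x trivial) (CurveSpecial.homOfClass_one τ))
    have hq : q = ((DerSch.stalkFunctor X x).map φ).hom ((b * ↑hau.unit⁻¹) • one) := by
      rw [map_smul, h1, ← hb]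
      show b • _ = (b * _) • (show Q.presheaf.stalk x from _)
      rw [← ha]
      dsimp only
      rw [smul_smul, mul_assoc, IsUnit.val_inv_mul, mul_one]
    rw [hq]
    exact (ConcreteCategory.congr_hom ((Functor.map_comp (DerSch.stalkFunctor X x) φ (cokernel.π φ)).symm.trans
      ((congrArg (DerSch.stalkFunctor X x).map (cokernel.condition φ)).trans (Functor.map_zero _ _ _))) _)
  haveI : Epi φ := Preadditive.epi_of_isZero_cokernel _ hz
  haveI := isIso_of_mono_of_epi φ
  exact hd ((CurveRR.deg_congr k (asIso φ) 1).symm.trans (CurveDeg.deg_structureModule k))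

end Groth.Agent.CurveCohLib.GermTwist
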