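import Groth.Agent.CurveCohLib.Nonspecial

/-! Global generation of invertible modules on curves. -/

noncomputable section

set_option linter.style.haveILetI false
set_option linter.unusedSectionVars false
set_option backward.isDefEq.respectTransparency false
set_option backward.isDefEq.respectTransparency.types false

universe u

open CategoryTheory CategoryTheory.Limits AlgebraicGeometry TopologicalSpace Opposite MonoidalCategory
open Groth.Agent.PnCoh.Finite (mapLin)

namespace Groth.Agent.CurveCohLib.GlobGen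

open Groth.Agent.CurveBundle Groth.Agent.CurveSlope

variable {X : Scheme.{u}}

/-- Germs of global sections spanning each stalk give global generation. -/
theorem gg_of_span {M : X.Modules}
    (h : ∀ x : X, Submodule.span (X.presheaf.stalk x) (Set.range fun t : Γ(M, ⊤) => M.presheaf.germ ⊤ x trivial t) = ⊤) :
    Euler.GG M := by
  intro T g hg
  refine Scheme.Modules.hom_ext _ _ fun W => ?_
  ext s
  refine TopCat.Presheaf.section_ext ⟨T.presheaf, T.isSheaf⟩ W _ _ fun x hx => ?_
  change T.presheaf.germ W x hx (g.app W s) = T.presheaf.germ W x hx 0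
  rw [map_zero]
  have hker : (⊤ : Submodule (X.presheaf.stalk x) (M.presheaf.stalk x)) ≤
      LinearMap.ker ((DerSch.stalkFunctor X x).map g).hom := by
    rw [← h x, Submodule.span_le]
    rintro _ ⟨t, rfl⟩
    rw [SetLike.mem_coe, LinearMap.mem_ker]
    refine (TopCat.Presheaf.stalkFunctor_map_germ_apply ⊤ x trivial ((Scheme.Modules.toPresheaf X).map g) t).trans ?_
    have h0 := congrArg (fun φ => Scheme.Modules.Hom.app φ ⊤ (1 : Γ(X, ⊤))) (hg (QCoh.homOfTop t))
    change g.app ⊤ ((QCoh.homOfTop t).app ⊤ (1 : Γ(X, ⊤))) = 0 at h0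
    rw [QCoh.homOfTop_app, one_smul] at h0
    have ht : (M.presheaf.map (homOfLE (le_top : (⊤ : X.Opens) ≤ ⊤)).op t) = t :=
      ConcreteCategory.congr_hom (M.presheaf.map_id _) t
    rw [ht] at h0
    exact (congrArg (T.presheaf.germ ⊤ x trivial) h0).trans (map_zero _)
  exact (TopCat.Presheaf.stalkFunctor_map_germ_apply W x hx ((Scheme.Modules.toPresheaf X).map g) s).symm.trans
    (LinearMap.mem_ker.1 (hker (Submodule.mem_top (x := M.presheaf.germ W x hx s))))

/-- The stalk of the structure sheaf is generated by one. -/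
theorem exists_smul_one (x : X) (y : (DerSch.stalkFunctor X x).obj (Coh.structureModule X)) :
    ∃ a : X.presheaf.stalk x, y = a • (show (DerSch.stalkFunctor X x).obj (Coh.structureModule X) from
      (Coh.structureModule X).presheaf.germ ⊤ x trivial (1 : Γ(X, ⊤))) := by
  obtain ⟨W, hxW, s, rfl⟩ := TopCat.Presheaf.exists_germ_eq (Coh.structureModule X).presheaf y
  refine ⟨X.presheaf.germ W x hxW s, ?_⟩
  have hs : s = (show Γ(X, W) from s) • (show Γ(Coh.structureModule X, W) from (Coh.structureModule X).presheaf.map (homOfLE le_top).op (1 : Γ(X, ⊤))) := by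
    change (show Γ(X, W) from s) = (show Γ(X, W) from s) * X.presheaf.map (homOfLE le_top).op (1 : Γ(X, ⊤))
    rw [map_one, mul_one]
  conv_lhs => rw [hs]
  refine (QCoh.germ_smul' (Coh.structureModule X) hxW s _).trans ?_
  exact congrArg (X.presheaf.germ W x hxW s • ·) ((Coh.structureModule X).presheaf.germ_res_apply (homOfLE le_top) x hxW _)

/-- The structure sheaf of a closed subscheme is nonzero at its points. -/
theorem nontrivial_stalk_quotMod (Z : X.IdealSheafData) {x : X} (hx : x ∈ Z.support) :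
    ¬ Subsingleton ((ClSub.quotMod Z).presheaf.stalk x) := by
  intro hs
  obtain ⟨z, hz⟩ : ∃ z, Z.subschemeι z = x := by
    have h : x ∈ (Z.support : Set X) := hx
    rwa [← Z.range_subschemeι] at h
  obtain ⟨V, hxV, i, j, he⟩ := (ClSub.quotMod Z).presheaf.germ_eq (U := ⊤) (V := ⊤) x trivial trivial
    (1 : Γ(Z.subscheme, Z.subschemeι ⁻¹ᵁ ⊤)) 0 (hs.elim _ _)
  have h2 : (1 : Γ(Z.subscheme, Z.subschemeι ⁻¹ᵁ V)) = 0 := by
    refine Eq.trans ?_ (he.trans (map_zero _))
    exact (map_one (Z.subscheme.presheaf.map ((Opens.map Z.subschemeι.base).map i).op).hom).symm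
  have h3 := congrArg (Z.subscheme.presheaf.germ (Z.subschemeι ⁻¹ᵁ V) z (show Z.subschemeι z ∈ V by rwa [hz])) h2
  rw [map_one, map_zero] at h3
  exact one_ne_zero h3

/-- The maximal ideal kills the structure sheaf of a reduced point. -/
theorem smul_stalk_quotMod_eq_zero {x : X} (hx : IsClosed ({x} : Set X))
    {a : X.presheaf.stalk x} (ha : a ∈ IsLocalRing.maximalIdeal (X.presheaf.stalk x))
    (q : (DerSch.stalkFunctor X x).obj (ClSub.quotMod (Scheme.IdealSheafData.vanishingIdeal ⟨{x}, hx⟩))) : a • q = 0 := by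
  revert q
  set Z := Scheme.IdealSheafData.vanishingIdeal ⟨{x}, hx⟩ with hZ
  intro q
  obtain ⟨V, hxV, r, rfl⟩ := X.presheaf.exists_germ_eq a
  obtain ⟨U, hxU, s, rfl⟩ := TopCat.Presheaf.exists_germ_eq (ClSub.quotMod Z).presheaf q
  obtain ⟨_, ⟨W, hW, rfl⟩, hxW, hWle⟩ :=
    X.isBasis_affineOpens.exists_subset_of_mem_open (show x ∈ V ⊓ U from ⟨hxV, hxU⟩) (V ⊓ U).2
  have hWV : W ≤ V := fun y hy => (hWle hy).1
  have hWU : W ≤ U := fun y hy => (hWle hy).2
  rw [← X.presheaf.germ_res_apply (homOfLE hWV) x hxW r] at ha ⊢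
  rw [← (ClSub.quotMod Z).presheaf.germ_res_apply (homOfLE hWU) x hxW s]
  set f := X.presheaf.map (homOfLE hWV).op r
  set s' := (ClSub.quotMod Z).presheaf.map (homOfLE hWU).op s
  have hfx : x ∉ X.basicOpen f := fun h =>
    IsLocalRing.notMem_maximalIdeal.2 ((X.mem_basicOpen f x hxW).1 h) ha
  have hf : f ∈ Z.ideal ⟨W, hW⟩ := by
    rw [hZ, Scheme.IdealSheafData.vanishingIdeal_ideal, PrimeSpectrum.mem_vanishingIdeal]
    intro P hP
    by_contra hfP
    have h1 : P ∈ hW.fromSpec ⁻¹ᵁ X.basicOpen f := by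
      rw [hW.fromSpec_preimage_basicOpen]
      exact hfP
    have h2 : hW.fromSpec P = x := hP
    exact hfx (h2 ▸ h1)
  have hfs : (f • s' : Γ(ClSub.quotMod Z, W)) = 0 := by
    have h0 : Z.subschemeι.app W f = 0 := by
      rw [← RingHom.mem_ker]
      exact (Z.ker_subschemeι_app ⟨W, hW⟩).ge hf
    show (Z.subschemeι.app W f * (show Γ(Z.subscheme, Z.subschemeι ⁻¹ᵁ W) from s') :
      Γ(Z.subscheme, Z.subschemeι ⁻¹ᵁ W)) = 0
    rw [h0, zero_mul]
  exact ((QCoh.germ_smul' (ClSub.quotMod Z) hxW f s').symm.trans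
    (congrArg ((ClSub.quotMod Z).presheaf.germ W x hxW) hfs)).trans (map_zero _)

/-- The same after tensoring. -/
theorem smul_stalk_twist_eq_zero (L : X.Modules) {x : X} (hx : IsClosed ({x} : Set X))
    {a : X.presheaf.stalk x} (ha : a ∈ IsLocalRing.maximalIdeal (X.presheaf.stalk x))
    (q : (DerSch.stalkFunctor X x).obj ((DCoh.tensorBi.obj L).obj (ClSub.quotMod (Scheme.IdealSheafData.vanishingIdeal ⟨{x}, hx⟩)))) :
    a • q = 0 := by
  let e := ((KFlatLib.stalkTensorLeftIso L x).app (ClSub.quotMod (Scheme.IdealSheafData.vanishingIdeal ⟨{x}, hx⟩))).toLinearEquiv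
  refine e.injective ?_
  rw [map_smul, map_zero]
  generalize e q = w
  induction w using TensorProduct.induction_on with
  | zero => rw [smul_zero]
  | tmul l i => exact ((TensorProduct.tmul_smul a l i).symm.trans (congrArg (l ⊗ₜ[_] ·) (smul_stalk_quotMod_eq_zero hx ha i))).trans (TensorProduct.tmul_zero _ l)
  | add u v hu hv => rw [smul_add, hu, hv, add_zero]

variable (k : Type u) [Field k] [X.Over (Spec (CommRingCat.of k))] [IsIntegral X] [IsProper (X ↘ Spec (CommRingCat.of k))]

include k in
/-- An invertible module with a nonzero section and a section not vanishing at each closed point is globally generated. -/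
theorem isGloballyGenerated (hdim : topologicalKrullDim X = 1) {L : X.Modules} (hL : PicF.IsInvertible L)
    (hne : ∃ s : Coh.structureModule X ⟶ L, s ≠ 0)
    (h : ∀ (x : X) (hx : IsClosed ({x} : Set X)),
      ∃ t, mapLin k ((DCoh.tensorBi.obj L).map (ClSub.toSubscheme (Scheme.IdealSheafData.vanishingIdeal ⟨{x}, hx⟩))) 0 t ≠ 0) :
    Curv2.IsGloballyGenerated L := by
  haveI := CurveCohLib.isNoetherian_of_proper (k := k) (X := X)
  have hL1 := InvEnd.isFinLocFreeOfRank_one hL
  have hLf : FlatMod.IsFinLocFree L := fun y => let ⟨W, hy, he⟩ := hL1 y; ⟨W, 1, hy, he⟩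
  let M := (DCoh.tensorBi.obj L).obj (Coh.structureModule X)
  have hMc : Coh.IsCoh M := CurveTensor.isCoh_tensor hLf QCoh.isCoh_structureModule'
  let e : M ≅ L := KFlatLib.tensorUnitIso L
  suffices hGG : Euler.GG M by
    refine Euler.GG.isGloballyGenerated (fun T g hg => ?_)
    have := hGG T (e.hom ≫ g) fun s => by simpa using hg (s ≫ e.hom)
    rw [← cancel_epi e.hom, this, Limits.comp_zero]
  refine gg_of_span fun x => ?_
  haveI := finite_stalk_of_coh hMc x
  set N := Submodule.span (X.presheaf.stalk x) (Set.range fun t : Γ(M, ⊤) => M.presheaf.germ ⊤ x trivial t) with hN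
  by_cases hx : IsClosed ({x} : Set X)
  · set Z := Scheme.IdealSheafData.vanishingIdeal ⟨{x}, hx⟩ with hZdef
    have hsupp : (Z.support : Set X) = {x} := by
      rw [hZdef]
      simp [Scheme.IdealSheafData.coe_support_vanishingIdeal, hx.closure_eq]
    have hxZ : x ∈ Z.support := show x ∈ (Z.support : Set X) by rw [hsupp]; rfl
    have hS := CurveTensor.shortExact_tensor hLf _ _ _ (Nonspecial.ideal_shortExact Z)
    have hQc : Coh.IsCoh ((DCoh.tensorBi.obj L).obj (ClSub.quotMod Z)) :=
      CurveTensor.isCoh_tensor hLf (ParShLib.isCoh_quotMod Z)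
    have hQcl : ∀ y ∈ CohB1.support ((DCoh.tensorBi.obj L).obj (ClSub.quotMod Z)), IsClosed ({y} : Set X) := fun y hy => by
      have hy' : y ∈ Z.support := not_not.1 fun h => (CurveTensor.support_tensor_subset hy) (ParShLib.subsingleton_stalk_quotMod Z h)
      have : y ∈ (Z.support : Set X) := hy'
      rw [hsupp] at this
      rwa [Set.mem_singleton_iff.1 this]
    obtain ⟨t, ht⟩ := h x hx
    let T : Γ(M, ⊤) := Sheaf.H.equiv₀ (Coh.toAb M) isTerminalTop t
    let π := ((DerSch.stalkFunctor X x).map ((DCoh.tensorBi.obj L).map (ClSub.toSubscheme Z))).hom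
    have hπ : π (M.presheaf.germ ⊤ x trivial T) ≠ 0 := by
      intro h0
      refine ht ((Sheaf.H.equiv₀ (Coh.toAb ((DCoh.tensorBi.obj L).obj (ClSub.quotMod Z))) isTerminalTop).injective ?_)
      rw [map_zero]
      refine (Sheaf.H.equiv₀_naturality isTerminalTop ((QCoh.toAbFunctor X).map ((DCoh.tensorBi.obj L).map (ClSub.toSubscheme Z))) t).symm.trans ?_
      refine TopCat.Presheaf.section_ext ⟨((DCoh.tensorBi.obj L).obj (ClSub.quotMod Z)).presheaf, ((DCoh.tensorBi.obj L).obj (ClSub.quotMod Z)).isSheaf⟩ ⊤ _ _ fun y _ => ?_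
      change ((DCoh.tensorBi.obj L).obj (ClSub.quotMod Z)).presheaf.germ ⊤ y trivial
        (((DCoh.tensorBi.obj L).map (ClSub.toSubscheme Z)).app ⊤ T) = ((DCoh.tensorBi.obj L).obj (ClSub.quotMod Z)).presheaf.germ ⊤ y trivial 0
      rw [map_zero]
      by_cases hy : y = x
      · subst hy
        exact (TopCat.Presheaf.stalkFunctor_map_germ_apply ⊤ _ trivial ((Scheme.Modules.toPresheaf X).map ((DCoh.tensorBi.obj L).map (ClSub.toSubscheme Z))) T).symm.trans h0
      · refine germ_eq_zero_of_notMem_support (U := ⊤) _ trivial fun hs => ?_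
        have hy' : y ∈ (Z.support : Set X) :=
          not_not.1 fun h => (CurveTensor.support_tensor_subset hs) (ParShLib.subsingleton_stalk_quotMod Z h)
        rw [hsupp] at hy'
        exact hy hy'
    obtain ⟨b⟩ := CurveTensor.exists_basis_stalk (InvEnd.isFinLocFreeOfRank_one (InvX.isInvertible_tensorMod hL CurveDeg.isInvertible_structureModule : PicF.IsInvertible M)) x
    set m := M.presheaf.germ ⊤ x trivial T with hm
    have hmb : m = b.repr m 0 • b 0 := by
      conv_lhs => rw [← b.sum_repr m]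
      simp
    have hu : IsUnit (b.repr m 0) := IsLocalRing.notMem_maximalIdeal.1 fun ha => hπ (by
      rw [hmb, map_smul]
      exact smul_stalk_twist_eq_zero L hx ha _)
    obtain ⟨v, hv⟩ := hu
    refine eq_top_iff.2 fun y _ => ?_
    have hb : b 0 = (↑v⁻¹ : X.presheaf.stalk x) • m := by
      conv_rhs => rw [hmb, ← hv, smul_smul, Units.inv_mul, one_smul]
    have hy : y = b.repr y 0 • b 0 := by
      conv_lhs => rw [← b.sum_repr y]
      simp
    rw [hy, hb, smul_smul]
    exact N.smul_mem _ (Submodule.subset_span ⟨T, hm.symm⟩)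
  · obtain rfl := CurveCohLib.eq_genericPoint_of_not_isClosed hdim hx
    obtain ⟨s, hs⟩ := hne
    let s' : Coh.structureModule X ⟶ M := s ≫ e.inv
    haveI : Mono s' := by
      haveI : Mono s := InvEnd.mono_of_ne_zero CurveDeg.isInvertible_structureModule hL s hs
      infer_instance
    letI := (isField_stalk_generic (X := X)).toField
    have hrk : Module.finrank (X.presheaf.stalk (genericPoint X)) (M.presheaf.stalk (genericPoint X)) = 1 :=
      (rk_congr e).trans (rk_eq hL1)
    let t : Γ(M, ⊤) := s'.app ⊤ (1 : Γ(X, ⊤))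
    have ht : M.presheaf.germ ⊤ (genericPoint X) trivial t ≠ 0 := fun h0 => by
      have h1 : Function.Injective ((DerSch.stalkFunctor X (genericPoint X)).map s').hom :=
        stalkMap_injective s' _
      have h2 : (Coh.structureModule X).presheaf.germ ⊤ (genericPoint X) trivial (1 : Γ(X, ⊤)) = 0 := h1 (by
        rw [map_zero]
        exact (TopCat.Presheaf.stalkFunctor_map_germ_apply ⊤ _ trivial ((Scheme.Modules.toPresheaf X).map s') (1 : Γ(X, ⊤))).trans h0)
      haveI : Subsingleton ((Coh.structureModule X).presheaf.stalk (genericPoint X)) :=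
        subsingleton_of_forall_eq 0 fun y => by
          obtain ⟨c, rfl⟩ := exists_smul_one (genericPoint X) y
          exact (congrArg (c • ·) h2).trans (smul_zero c)
      have h4 := rk_eq (InvEnd.isFinLocFreeOfRank_one (CurveDeg.isInvertible_structureModule (X := X)))
      unfold CurveBundle.rk at h4
      rw [Module.finrank_zero_of_subsingleton] at h4
      exact zero_ne_one h4
    exact eq_top_iff.2 fun m _ => by
      obtain ⟨c, rfl⟩ := exists_smul_eq_of_finrank_eq_one hrk ht m
      exact N.smul_mem c (Submodule.subset_span ⟨t, rfl⟩)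

end Groth.Agent.CurveCohLib.GlobGen
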