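import Mathlib.RingTheory.Nullstellensatz
import Mathlib.RingTheory.Ideal.KrullsHeightTheorem
import Mathlib.LinearAlgebra.Dimension.Free
import Mathlib.RingTheory.Polynomial.Basic
import Mathlib.RingTheory.MvPolynomial.Ideal

/-! The lemma of Hopf for bilinear maps without zero divisors over an algebraically closed field. -/

noncomputable section

namespace Groth.Agent.CurveCohLib.HopfBilinear

open MvPolynomial

variable {k : Type*} [Field k] (a b : ℕ)

/-- The parametrisation of the cone of rank one tensors. -/
def segre (g : Fin (a + 1) ⊕ Fin (b + 1) → MvPolynomial (Fin (a + 1) ⊕ Fin (b + 1)) k) :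
    MvPolynomial (Fin (a + 1) × Fin (b + 1)) k →ₐ[k] MvPolynomial (Fin (a + 1) ⊕ Fin (b + 1)) k :=
  aeval fun p => g (.inl p.1) * g (.inr p.2)

/-- The variables alive at step `n`. -/
def alive (n : ℕ) : Fin (a + 1) ⊕ Fin (b + 1) → MvPolynomial (Fin (a + 1) ⊕ Fin (b + 1)) k
  | .inl i => if (i : ℕ) < n ∧ (i : ℕ) < a then 0 else X (.inl i)
  | .inr j => if a + (j : ℕ) < n ∧ (j : ℕ) < b then 0 else X (.inr j)

theorem aeval_alive (n m : ℕ) (h : n ≤ m) (s : Fin (a + 1) ⊕ Fin (b + 1)) :
    aeval (alive (k := k) a b m) (alive (k := k) a b n s) = alive a b m s := by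
  rcases s with i | j
  · by_cases h1 : (i : ℕ) < n ∧ (i : ℕ) < a
    · simp [alive, h1, show (i : ℕ) < m by omega]
    · simp only [alive, h1, if_false, aeval_X]
  · by_cases h1 : a + (j : ℕ) < n ∧ (j : ℕ) < b
    · simp [alive, h1, show a + (j : ℕ) < m by omega]
    · simp only [alive, h1, if_false, aeval_X]

/-- The primes of the chain. -/
def chain (n : ℕ) : Ideal (MvPolynomial (Fin (a + 1) × Fin (b + 1)) k) :=
  RingHom.ker (segre a b (alive (k := k) a b n))

instance chain_isPrime (n : ℕ) : (chain (k := k) a b n).IsPrime := RingHom.ker_isPrime _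

theorem chain_mono {n m : ℕ} (h : n ≤ m) : chain (k := k) a b n ≤ chain a b m := by
  intro f hf
  have hc : segre a b (alive (k := k) a b m) = (aeval (alive (k := k) a b m)).comp (segre a b (alive a b n)) := by
    refine algHom_ext fun p => ?_
    simp [segre, aeval_alive a b n m h]
  show segre a b (alive a b m) f = 0
  rw [hc, AlgHom.comp_apply, show segre a b (alive (k := k) a b n) f = 0 from hf, map_zero]

theorem chain_lt {n : ℕ} (h : n < a + b) : chain (k := k) a b n < chain a b (n + 1) := by
  refine lt_of_le_of_ne (chain_mono a b n.le_succ) fun he => ?_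
  by_cases hn : n < a
  · have h1 : (X (⟨n, by omega⟩, ⟨b, by omega⟩) : MvPolynomial _ k) ∈ chain (k := k) a b (n + 1) := by
      show segre a b _ _ = 0
      simp [segre, alive, hn]
    rw [← he] at h1
    have h2 : segre a b (alive (k := k) a b n) (X (⟨n, by omega⟩, ⟨b, by omega⟩)) = 0 := h1
    simp [segre, alive] at h2
  · have h1 : (X (⟨a, by omega⟩, ⟨n - a, by omega⟩) : MvPolynomial _ k) ∈ chain (k := k) a b (n + 1) := by
      show segre a b _ _ = 0
      simp [segre, alive, show a + (n - a) ≤ n by omega, show n - a < b by omega]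
    rw [← he] at h1
    have h2 : segre a b (alive (k := k) a b n) (X (⟨a, by omega⟩, ⟨n - a, by omega⟩)) = 0 := h1
    simp [segre, alive, show ¬ a + (n - a) < n by omega] at h2

/-- The origin. -/
def origin : Ideal (MvPolynomial (Fin (a + 1) × Fin (b + 1)) k) :=
  RingHom.ker (aeval (R := k) (S₁ := k) fun _ => 0)

instance origin_isPrime : (origin (k := k) a b).IsPrime := RingHom.ker_isPrime _

theorem chain_lt_origin (n : ℕ) : chain (k := k) a b n < origin a b := by
  refine lt_of_le_of_ne (fun f hf => ?_) fun he => ?_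
  · have hc : (aeval (R := k) (S₁ := k) fun _ : Fin (a + 1) × Fin (b + 1) => 0) =
        (aeval (R := k) (S₁ := k) fun _ : Fin (a + 1) ⊕ Fin (b + 1) => 0).comp (segre a b (alive a b n)) := by
      refine algHom_ext fun p => ?_
      simp only [segre, AlgHom.comp_apply, aeval_X, map_mul, alive]
      split_ifs <;> simp
    show aeval (R := k) (S₁ := k) _ f = 0
    rw [hc, AlgHom.comp_apply, show segre a b (alive (k := k) a b n) f = 0 from hf, map_zero]
  · have h1 : (X (⟨a, by omega⟩, ⟨b, by omega⟩) : MvPolynomial _ k) ∈ origin (k := k) a b := by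
      show aeval (R := k) (S₁ := k) _ _ = 0
      simp
    rw [← he] at h1
    have h2 : segre a b (alive (k := k) a b n) (X (⟨a, by omega⟩, ⟨b, by omega⟩)) = 0 := h1
    simp [segre, alive] at h2

theorem minor_mem (i l : Fin (a + 1)) (j m : Fin (b + 1)) :
    X (i, j) * X (l, m) - X (i, m) * X (l, j) ∈ chain (k := k) a b 0 := by
  show segre a b _ _ = 0
  simp only [segre, map_sub, map_mul, aeval_X]
  ring

/-- Finitely many linear forms with no common zero on the cone besides the origin are at least
`dim` many. -/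
theorem le_of_cut [IsAlgClosed k] {w : ℕ} (L : Fin w → MvPolynomial (Fin (a + 1) × Fin (b + 1)) k)
    (hL0 : ∀ l, L l ∈ origin a b)
    (hcut : ∀ z : Fin (a + 1) × Fin (b + 1) → k, (∀ i l j m, z (i, j) * z (l, m) = z (i, m) * z (l, j)) →
      (∀ l, aeval z (L l) = 0) → z = 0) :
    a + b + 1 ≤ w := by
  classical
  let Q := chain (k := k) a b 0
  let π := Ideal.Quotient.mk Q
  have hker : ∀ n, RingHom.ker π ≤ chain (k := k) a b n := fun n => by
    rw [Ideal.mk_ker]; exact chain_mono a b n.zero_le
  have hker' : RingHom.ker π ≤ origin (k := k) a b := (hker 0).trans (chain_lt_origin a b 0).le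
  let p : ℕ → Ideal (_ ⧸ Q) := fun n => (chain (k := k) a b n).map π
  haveI hp : ∀ n, (p n).IsPrime := fun n => Ideal.map_isPrime_of_surjective Ideal.Quotient.mk_surjective (hker n)
  let M := (origin (k := k) a b).map π
  haveI hM : M.IsPrime := Ideal.map_isPrime_of_surjective Ideal.Quotient.mk_surjective hker'
  have hinj : ∀ {I J : Ideal (MvPolynomial (Fin (a + 1) × Fin (b + 1)) k)}, RingHom.ker π ≤ I →
      RingHom.ker π ≤ J → I < J → I.map π < J.map π := fun {I J} hI hJ h => by
    refine lt_of_le_of_ne (Ideal.map_mono h.le) fun he => h.ne ?_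
    have := congrArg (Ideal.comap π) he
    rwa [Ideal.comap_map_of_surjective' _ Ideal.Quotient.mk_surjective,
      Ideal.comap_map_of_surjective' _ Ideal.Quotient.mk_surjective, sup_eq_left.2 hI, sup_eq_left.2 hJ] at this
  have hheight : ∀ n, n ≤ a + b → (n : ℕ∞) ≤ (p n).height := by
    intro n
    induction n with
    | zero => intro; simp
    | succ n ih =>
      intro hn
      refine le_trans ?_ (Ideal.height_add_one_le_of_lt_of_isPrime
        (hinj (hker n) (hker _) (chain_lt a b (show n < a + b by omega))))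
      push_cast
      exact add_le_add_left (ih (by omega)) 1
  have h1 : ((a + b + 1 : ℕ) : ℕ∞) ≤ M.height := by
    refine le_trans ?_ (Ideal.height_add_one_le_of_lt_of_isPrime
      (hinj (hker (a + b)) hker' (chain_lt_origin a b (a + b))))
    push_cast
    exact add_le_add_left (hheight _ le_rfl) 1
  let S : Finset (_ ⧸ Q) := Finset.univ.image fun l => π (L l)
  have hmin : M ∈ (Ideal.span (S : Set (_ ⧸ Q))).minimalPrimes := by
    refine ⟨⟨hM, Ideal.span_le.2 ?_⟩, fun P hP _ => ?_⟩
    · intro y hy
      obtain ⟨l, -, rfl⟩ := Finset.mem_image.1 hy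
      exact Ideal.mem_map_of_mem π (hL0 l)
    obtain ⟨hPp, hPS⟩ := hP
    let I := Q ⊔ Ideal.span (Set.range L)
    have hIP : I ≤ P.comap π := sup_le (fun f hf => by
      show π f ∈ P
      rw [show π f = 0 from Ideal.Quotient.eq_zero_iff_mem.2 hf]; exact P.zero_mem) (Ideal.span_le.2 (by
      rintro _ ⟨l, rfl⟩
      exact hPS (Ideal.subset_span (Finset.mem_image_of_mem _ (Finset.mem_univ l)))))
    have hX : ∀ s, X s ∈ I.radical := fun s => by
      rw [← vanishingIdeal_zeroLocus_eq_radical (K := k) I, mem_vanishingIdeal_iff]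
      intro z hz
      have : z = 0 := hcut z (fun i l j m => by
        have := hz _ (Ideal.mem_sup_left (minor_mem a b i l j m) : _ ∈ I)
        simpa [sub_eq_zero] using this)
        fun l => hz _ (Ideal.mem_sup_right (Ideal.subset_span ⟨l, rfl⟩))
      simp [this]
    have hrad : I.radical ≤ P.comap π := (Ideal.IsPrime.radical_le_iff (Ideal.comap_isPrime π P)).2 hIP
    refine Ideal.map_le_iff_le_comap.2 fun f hf => ?_
    have hspan : f ∈ Ideal.span (Set.range (X : Fin (a + 1) × Fin (b + 1) → MvPolynomial _ k)) := by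
      have hf' : aeval (R := k) (S₁ := k) (fun _ : Fin (a + 1) × Fin (b + 1) => 0) f = 0 := hf
      rw [aeval_zero', Algebra.algebraMap_self_apply] at hf'
      rw [← Set.image_univ, mem_ideal_span_X_image]
      intro m hm
      by_contra hcon
      push Not at hcon
      have hm0 : m = 0 := Finsupp.ext fun s => hcon s (Set.mem_univ s)
      subst hm0
      exact mem_support_iff.1 hm hf'
    exact Ideal.span_le.2 (by rintro _ ⟨s, rfl⟩; exact hrad (hX s)) hspan
  have h2 := h1.trans ((Ideal.height_le_card_of_mem_minimalPrimes_span_finset hmin).trans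
    (Nat.cast_le.2 Finset.card_image_le))
  rw [Finset.card_univ, Fintype.card_fin] at h2
  exact_mod_cast h2

/-- Hopf: a bilinear map over an algebraically closed field without zero divisors. -/
theorem finrank_add_le [IsAlgClosed k] {U V W : Type*} [AddCommGroup U] [Module k U] [AddCommGroup V]
    [Module k V] [AddCommGroup W] [Module k W] [FiniteDimensional k U] [FiniteDimensional k V]
    [FiniteDimensional k W] [Nontrivial U] [Nontrivial V] (B : U →ₗ[k] V →ₗ[k] W)
    (h : ∀ x y, B x y = 0 → x = 0 ∨ y = 0) :
    Module.finrank k U + Module.finrank k V ≤ Module.finrank k W + 1 := by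
  classical
  obtain ⟨a, ha⟩ := Nat.exists_eq_add_of_le' (Module.finrank_pos (R := k) (M := U))
  obtain ⟨b, hb⟩ := Nat.exists_eq_add_of_le' (Module.finrank_pos (R := k) (M := V))
  let bU := Module.finBasisOfFinrankEq k U ha
  let bV := Module.finBasisOfFinrankEq k V hb
  let bW := Module.finBasis k W
  let L : Fin (Module.finrank k W) → MvPolynomial (Fin (a + 1) × Fin (b + 1)) k := fun l =>
    ∑ p : Fin (a + 1) × Fin (b + 1), C (bW.repr (B (bU p.1) (bV p.2)) l) * X p
  have := le_of_cut a b L (fun l => by
    show aeval (R := k) (S₁ := k) _ _ = 0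
    simp [L]) fun z hz hL => by
    by_contra hz0
    obtain ⟨⟨i₀, j₀⟩, hne⟩ := Function.ne_iff.1 hz0
    have hne' : z (i₀, j₀) ≠ 0 := hne
    let x : U := ∑ i, z (i, j₀) • bU i
    let y : V := ∑ j, z (i₀, j) • bV j
    have hxy : B x y = 0 := by
      refine bW.ext_elem fun l => ?_
      rw [map_zero, Finsupp.zero_apply]
      have h0 : bW.repr (B x y) l =
          z (i₀, j₀) * ∑ p : Fin (a + 1) × Fin (b + 1), bW.repr (B (bU p.1) (bV p.2)) l * z p := by
        simp only [x, y, map_sum, map_smul, LinearMap.sum_apply, LinearMap.smul_apply,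
          Finsupp.coe_finsetSum, Finset.sum_apply, Finsupp.smul_apply, smul_eq_mul, Finset.mul_sum,
          Fintype.sum_prod_type]
        rw [Finset.sum_comm]
        refine Finset.sum_congr rfl fun i _ => Finset.sum_congr rfl fun j _ => ?_
        linear_combination bW.repr (B (bU i) (bV j)) l * hz i i₀ j₀ j
      rw [h0]
      have := hL l
      simp only [L, map_sum, map_mul, aeval_C, aeval_X, Algebra.algebraMap_self_apply] at this
      rw [this, mul_zero]
    rcases h x y hxy with h' | h'
    · exact hne' (Fintype.linearIndependent_iff.1 bU.linearIndependent (fun i => z (i, j₀)) h' i₀)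
    · exact hne' (Fintype.linearIndependent_iff.1 bV.linearIndependent (fun j => z (i₀, j)) h' j₀)
  omega

end Groth.Agent.CurveCohLib.HopfBilinear
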