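import Groth.Agent.CurveCohLib.PointTwist
import Groth.Agent.CurveCohLib.Hopf
import Groth.Agent.InvX.Frame
import Groth.Prelude.Def_LinSer

/-! Generating sections and the base-point-free pencil trick. -/

noncomputable section

set_option linter.style.haveILetI false
set_option linter.unusedSectionVars false
set_option backward.isDefEq.respectTransparency false
set_option backward.isDefEq.respectTransparency.types false

universe u

open CategoryTheory CategoryTheory.Limits AlgebraicGeometry TopologicalSpace Opposite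
open Groth.Agent.PnCoh.Finite (mapLin)
open Groth.Agent.AModX (res resR)

namespace Groth.Agent.CurveCohLib.Pencil

section Tensor

variable {X : Scheme.{u}} {M N : X.Modules}

theorem tmul_add_right {U : X.Opens} (a : Γ(M, U)) (b b' : Γ(N, U)) :
    InvX.tmul a (b + b') = InvX.tmul a b + InvX.tmul a b' :=
  (congrArg _ (KFlatLib.tm_add_right a b b')).trans (map_add _ _ _)

/-- A frame can be cancelled in a tensor. -/
theorem tmul_left_injective (hN : PicF.IsInvertible N) {W : X.Opens} {a : Γ(M, W)} (ha : InvX.IsFrame a)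
    {p q : Γ(N, W)} (h : InvX.tmul a p = InvX.tmul a q) : p = q := by
  refine AModX.eq_of_locally _ _ fun y hy => ?_
  obtain ⟨U, hyU, f, hf⟩ := InvX.exists_frame hN y
  refine ⟨W ⊓ U, inf_le_left, ⟨hy, hyU⟩, ?_⟩
  obtain ⟨r, hr⟩ := hf.exists_coord inf_le_right (res N (inf_le_left : W ⊓ U ≤ W) p)
  obtain ⟨r', hr'⟩ := hf.exists_coord inf_le_right (res N (inf_le_left : W ⊓ U ≤ W) q)
  have h1 := congrArg (res (CohB1.tensorMod M N) (inf_le_left : W ⊓ U ≤ W)) h
  rw [InvX.res_tmul, InvX.res_tmul, hr, hr', InvX.tmul_smul_right, InvX.tmul_smul_right] at h1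
  have h2 := (InvX.isFrame_tmul (ha.res (inf_le_left : W ⊓ U ≤ W)) (hf.res inf_le_right)).coord_unique le_rfl
    (r := r) (r' := r') (by rw [AModX.res_self]; exact h1)
  rw [hr, hr', h2]

end Tensor

variable {X : Scheme.{u}}

/-- The pencil trick, for two sections with frames everywhere. -/
theorem eq_zero_of_tmul_eq {M N : X.Modules} (hN : PicF.IsInvertible N) (hom0 : ∀ φ : M ⟶ N, φ = 0)
    (s : Fin 2 → Γ(M, ⊤))
    (hs : ∀ x : X, ∃ (i : Fin 2) (U : X.Opens) (_ : x ∈ U), InvX.IsFrame (res M (le_top : U ≤ ⊤) (s i)))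
    (u v : Γ(N, ⊤)) (h : InvX.tmul (s 0) u = InvX.tmul (s 1) v) : u = 0 ∧ v = 0 := by
  choose i U hxU he using hs
  let n : Fin 2 → Γ(N, ⊤) := ![v, u]
  have hc : ∀ (a b : X) (W : X.Opens) (ha : W ≤ U a) (hb : W ≤ U b) (g : Γ(X, W)),
      res M hb (res M le_top (s (i b))) = g • res M ha (res M le_top (s (i a))) →
      res N hb (res N le_top (n (i b))) = g • res N ha (res N le_top (n (i a))) := by
    intro a b W ha hb g hg
    have hW := congrArg (res (CohB1.tensorMod M N) (le_top : W ≤ ⊤)) h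
    rw [InvX.res_tmul, InvX.res_tmul] at hW
    have hfr : InvX.IsFrame (res M (le_top : W ≤ ⊤) (s (i a))) := by
      have := (he a).res ha
      rwa [AModX.res_res] at this
    simp only [AModX.res_res] at hg ⊢
    rcases Fin.exists_fin_two.1 ⟨i a, rfl⟩ with hia | hia <;>
      rcases Fin.exists_fin_two.1 ⟨i b, rfl⟩ with hib | hib <;> rw [hia] at hg hfr ⊢ <;> rw [hib] at hg ⊢
    · have : g = 1 := hfr.coord_unique le_rfl (by rw [AModX.res_self, one_smul]; exact hg.symm)
      rw [this, one_smul]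
    · refine tmul_left_injective hN hfr ?_
      show InvX.tmul _ (res N le_top u) = _
      rw [hW, hg, InvX.tmul_smul_left, InvX.tmul_smul_right]
      rfl
    · refine tmul_left_injective hN hfr ?_
      show InvX.tmul _ (res N le_top v) = _
      rw [← hW, hg, InvX.tmul_smul_left, InvX.tmul_smul_right]
      rfl
    · have : g = 1 := hfr.coord_unique le_rfl (by rw [AModX.res_self, one_smul]; exact hg.symm)
      rw [this, one_smul]
  have hφ := hom0 (InvX.ofFrames (M := M) (N := N) (U := U) (e := fun a => res M le_top (s (i a)))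
    (n := fun a => res N le_top (n (i a))) (fun x => ⟨x, hxU x⟩) he hc)
  have hn : ∀ a : X, res N (le_top : U a ≤ ⊤) (n (i a)) = 0 := fun a => by
    rw [← InvX.ofFrames_app (M := M) (N := N) (U := U) (e := fun a => res M le_top (s (i a)))
      (n := fun a => res N le_top (n (i a))) (fun x => ⟨x, hxU x⟩) he hc a, hφ]
    rfl
  have key : ∀ a : X, res N (le_top : U a ≤ ⊤) u = 0 ∧ res N (le_top : U a ≤ ⊤) v = 0 := fun a => by
    have hW := congrArg (res (CohB1.tensorMod M N) (le_top : U a ≤ ⊤)) h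
    rw [InvX.res_tmul, InvX.res_tmul] at hW
    have h0 := hn a
    have hfr := he a
    rcases Fin.exists_fin_two.1 ⟨i a, rfl⟩ with hia | hia <;> rw [hia] at h0 hfr <;>
      simp only [n, Matrix.cons_val_zero, Matrix.cons_val_one] at h0
    · refine ⟨tmul_left_injective hN hfr ?_, h0⟩
      rw [hW, h0]
      rw [← zero_smul Γ(X, U a) (0 : Γ(N, U a)), InvX.tmul_smul_right, zero_smul, InvX.tmul_smul_right, zero_smul]
    · refine ⟨h0, tmul_left_injective hN hfr ?_⟩
      rw [← hW, h0]
      rw [← zero_smul Γ(X, U a) (0 : Γ(N, U a)), InvX.tmul_smul_right, zero_smul, InvX.tmul_smul_right, zero_smul]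
  exact ⟨AModX.eq_of_locally _ _ fun a _ => ⟨U a, le_top, hxU a, by rw [(key a).1, map_zero]⟩,
    AModX.eq_of_locally _ _ fun a _ => ⟨U a, le_top, hxU a, by rw [(key a).2, map_zero]⟩⟩

variable (k : Type u) [Field k] [X.Over (Spec (CommRingCat.of k))]

/-- Multiplication by a section. -/
def tmulLin {M N : X.Modules} (s : Γ(M, ⊤)) :
    Coh.HH X N 0 →ₗ[k] Coh.HH X (CohB1.tensorMod M N) 0 where
  toFun t := (Sheaf.H.equiv₀ (Coh.toAb (CohB1.tensorMod M N)) isTerminalTop).symm
    (InvX.tmul s (Sheaf.H.equiv₀ (Coh.toAb N) isTerminalTop t : Γ(N, ⊤)))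
  map_add' a b := by
    rw [AddEquiv.symm_apply_eq]
    refine (congrArg (InvX.tmul s) (map_add (Sheaf.H.equiv₀ (Coh.toAb N) isTerminalTop) a b)).trans
      ((tmul_add_right _ _ _).trans ?_)
    refine Eq.trans ?_ (map_add _ _ _).symm
    exact congrArg₂ (· + ·) (AddEquiv.apply_symm_apply _ _).symm (AddEquiv.apply_symm_apply _ _).symm
  map_smul' c t := by
    rw [AddEquiv.symm_apply_eq, RingHom.id_apply]
    refine Eq.trans ?_ (CurveCohLib.h0Equiv_smul (CohB1.tensorMod M N) c _).symm
    refine (congrArg (InvX.tmul s) (CurveCohLib.h0Equiv_smul N c t)).trans ?_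
    refine (InvX.tmul_smul_right _ _ _).trans (congrArg (_ • ·) ?_)
    exact (AddEquiv.apply_symm_apply _ _).symm

/-- Independent sections bound `h⁰` from below. -/
theorem le_h0_of_linIndep [IsProper (X ↘ Spec (CommRingCat.of k))] {L : X.Modules} (hL : Coh.IsCoh L)
    {n : ℕ} (s : Fin n → LinSer.Sect X L) (h : LinSer.LinIndep k X L s) :
    n ≤ Module.finrank k (Coh.HH X L 0) := by
  haveI := CurveCohLib.finite_HH (k := k) hL 0
  let e := Sheaf.H.equiv₀ (Coh.toAb L) isTerminalTop
  have hli : LinearIndependent k fun j => (e.symm (s j) : Coh.HH X L 0) := by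
    rw [Fintype.linearIndependent_iff]
    intro c hc
    refine congrFun (h c ?_)
    have := congrArg e hc
    rw [map_sum, map_zero] at this
    refine Eq.trans (Finset.sum_congr rfl fun j _ => ?_) this
    refine Eq.trans ?_ (CurveCohLib.h0Equiv_smul L (c j) (e.symm (s j))).symm
    rw [show (show Γ(L, ⊤) from e (e.symm (s j))) = s j from AddEquiv.apply_symm_apply e (s j)]
    exact congrArg (· • s j) (show _ = Coh.resTop X (op ⊤) _ from
      (ConcreteCategory.congr_hom (X.presheaf.map_id (op ⊤)) _).symm)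
  simpa using hli.fintype_card_le_finrank

variable [IsAlgClosed k] [IsIntegral X] [IsProper (X ↘ Spec (CommRingCat.of k))]
  [Smooth (X ↘ Spec (CommRingCat.of k))]

/-- A basis of the sections of a globally generated invertible module has frames everywhere. -/
theorem exists_frames (hdim : topologicalKrullDim X = 1) {M : X.Modules} (hM : PicF.IsInvertible M)
    (hgg : ∀ (p : X) (hp : IsClosed ({p} : Set X)),
      Module.finrank k (Coh.HH X ((DCoh.tensorBi.obj M).obj (CurvePoint.ptMod p hp)) 0) <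
        Module.finrank k (Coh.HH X M 0))
    {ι : Type} [Finite ι] (b : Module.Basis ι k (Coh.HH X M 0)) (x : X) :
    ∃ (i : ι) (U : X.Opens) (_ : x ∈ U), InvX.IsFrame (res M (le_top : U ≤ ⊤)
      (Sheaf.H.equiv₀ (Coh.toAb M) isTerminalTop (b i) : Γ(M, ⊤))) := by
  haveI := CurveCohLib.isNoetherian_of_proper (k := k) (X := X)
  haveI : JacobsonSpace X := LocallyOfFiniteType.jacobsonSpace (X ↘ Spec (CommRingCat.of k))
  obtain ⟨p, hpx, hp⟩ := nonempty_inter_closedPoints (Set.singleton_nonempty x).closure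
    isClosed_closure.isLocallyClosed
  obtain ⟨U, hpU, e, he⟩ := InvX.exists_frame hM p
  letI := (Curv2.stalkMap k X p).toAlgebra
  obtain ⟨Φ, -, hΦ⟩ := Hopf.exists_coordLin k he hM hpU
  suffices h : ∃ i, IsUnit (Φ (b i)) by
    obtain ⟨i, hi⟩ := h
    have hspan : Submodule.span (X.presheaf.stalk p) (Set.range fun _ : Unit =>
        (M.presheaf.germ ⊤ p trivial).hom (Sheaf.H.equiv₀ (Coh.toAb M) isTerminalTop (b i) : Γ(M, ⊤))) = ⊤ := by
      refine eq_top_iff.2 fun y _ => ?_
      obtain ⟨c, hc⟩ := (he.germ_bijective hpU).2 y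
      rw [Set.range_const, Submodule.mem_span_singleton]
      refine ⟨c * ↑hi.unit⁻¹, ?_⟩
      rw [← hc, ← hΦ (b i), smul_smul, mul_assoc, IsUnit.val_inv_mul, mul_one]
    obtain ⟨-, V, hpV, hV⟩ := InvX.exists_frame_of_generated hM (fun _ : Unit =>
      (Sheaf.H.equiv₀ (Coh.toAb M) isTerminalTop (b i) : Γ(M, ⊤))) p hspan
    exact ⟨i, V, (specializes_iff_mem_closure.2 hpx).mem_open V.2 hpV, hV⟩
  by_contra hcon
  push Not at hcon
  have hall : ∀ t, Φ t ∈ IsLocalRing.maximalIdeal (X.presheaf.stalk p) := fun t => by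
    haveI := Fintype.ofFinite ι
    rw [← b.sum_repr t, map_sum]
    refine Ideal.sum_mem _ fun i _ => ?_
    rw [map_smul, Algebra.smul_def]
    exact Ideal.mul_mem_left _ _ ((IsLocalRing.mem_maximalIdeal _).2 (hcon i))
  obtain ⟨t, ht⟩ := PointTwist.exists_ne_zero_of_lt k hM p hp (hgg p hp)
  refine ht ((Sheaf.H.equiv₀ (Coh.toAb ((DCoh.tensorBi.obj M).obj
    (ClSub.quotMod (CurvePoint.ptIdeal p hp)))) isTerminalTop).injective ?_)
  rw [map_zero]
  let π := (DCoh.tensorBi.obj M).map (ClSub.toSubscheme (CurvePoint.ptIdeal p hp))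
  let u := KFlatLib.tensorUnitIso M
  refine (Sheaf.H.equiv₀_naturality isTerminalTop ((QCoh.toAbFunctor X).map π) t).symm.trans ?_
  refine TopCat.Presheaf.section_ext ⟨((DCoh.tensorBi.obj M).obj (ClSub.quotMod (CurvePoint.ptIdeal p hp))).presheaf,
    ((DCoh.tensorBi.obj M).obj (ClSub.quotMod (CurvePoint.ptIdeal p hp))).isSheaf⟩ ⊤ _ _ fun y _ => ?_
  change ((DCoh.tensorBi.obj M).obj (ClSub.quotMod (CurvePoint.ptIdeal p hp))).presheaf.germ ⊤ y trivial
    (π.app ⊤ (Sheaf.H.equiv₀ (Coh.toAb ((DCoh.tensorBi.obj M).obj (Coh.structureModule X))) isTerminalTop t)) =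
      ((DCoh.tensorBi.obj M).obj (ClSub.quotMod (CurvePoint.ptIdeal p hp))).presheaf.germ ⊤ y trivial 0
  rw [map_zero]
  by_cases hy : y = p
  · subst hy
    let F := DerSch.stalkFunctor X y
    let σ := mapLin k u.hom 0 t
    refine (TopCat.Presheaf.stalkFunctor_map_germ_apply ⊤ _ trivial ((Scheme.Modules.toPresheaf X).map π) _).symm.trans ?_
    let g : F.obj ((DCoh.tensorBi.obj M).obj (Coh.structureModule X)) :=
      ((DCoh.tensorBi.obj M).obj (Coh.structureModule X)).presheaf.germ ⊤ y trivial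
        (Sheaf.H.equiv₀ (Coh.toAb ((DCoh.tensorBi.obj M).obj (Coh.structureModule X))) isTerminalTop t)
    change (F.map π).hom g = 0
    have hg : (F.map u.hom).hom g = Φ σ • (M.presheaf.germ U y hpU).hom e := by
      rw [hΦ σ]
      refine (TopCat.Presheaf.stalkFunctor_map_germ_apply ⊤ _ trivial ((Scheme.Modules.toPresheaf X).map u.hom) _).trans ?_
      exact congrArg (M.presheaf.germ ⊤ y trivial)
        (Sheaf.H.equiv₀_naturality isTerminalTop ((QCoh.toAbFunctor X).map u.hom) t)
    have hinv : g = Φ σ • (F.map u.inv).hom ((M.presheaf.germ U y hpU).hom e) := by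
      refine Eq.trans ?_ ((congrArg (F.map u.inv).hom hg).trans (map_smul (F.map u.inv).hom _ _))
      exact (Iso.hom_inv_id_apply (F.mapIso u) g).symm
    rw [hinv, map_smul]
    exact CurvePoint.smul_tensor_eq_zero y hp (hall σ) _
  · exact CurveCohLib.germ_eq_zero_of_notMem_support (U := ⊤) _ trivial fun hs =>
      hy (Set.mem_singleton_iff.1 (CurvePoint.support_quot_subset p hp (CurveTensor.support_tensor_subset hs)))

/-- The pencil trick: `2 h⁰(N) ≤ h⁰(M ⊗ N)`. -/
theorem two_mul_h0_le (hdim : topologicalKrullDim X = 1) {M N : X.Modules} (hM : PicF.IsInvertible M)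
    (hN : PicF.IsInvertible N) (h2 : Module.finrank k (Coh.HH X M 0) = 2)
    (hgg : ∀ (p : X) (hp : IsClosed ({p} : Set X)),
      Module.finrank k (Coh.HH X ((DCoh.tensorBi.obj M).obj (CurvePoint.ptMod p hp)) 0) <
        Module.finrank k (Coh.HH X M 0))
    (hom0 : ∀ φ : M ⟶ N, φ = 0) :
    2 * Module.finrank k (Coh.HH X N 0) ≤ Module.finrank k (Coh.HH X (CohB1.tensorMod M N) 0) := by
  haveI := CurveCohLib.isNoetherian_of_proper (k := k) (X := X)
  haveI := CurveCohLib.finite_HH (k := k) (CurveDeg.isCoh_of_isInvertible hM) 0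
  haveI := CurveCohLib.finite_HH (k := k) (CurveDeg.isCoh_of_isInvertible hN) 0
  haveI := CurveCohLib.finite_HH (k := k)
    (CurveDeg.isCoh_of_isInvertible (InvX.isInvertible_tensorMod hM hN)) 0
  let b := Module.finBasisOfFinrankEq k (Coh.HH X M 0) h2
  let s : Fin 2 → Γ(M, ⊤) := fun i => (Sheaf.H.equiv₀ (Coh.toAb M) isTerminalTop (b i) : Γ(M, ⊤))
  let Ψ : Coh.HH X N 0 × Coh.HH X N 0 →ₗ[k] Coh.HH X (CohB1.tensorMod M N) 0 :=
    (tmulLin k (s 0)).comp (LinearMap.fst k _ _) - (tmulLin k (s 1)).comp (LinearMap.snd k _ _)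
  have hinj : Function.Injective Ψ := (injective_iff_map_eq_zero Ψ).2 fun ⟨u, v⟩ huv => by
    have h : InvX.tmul (s 0) (Sheaf.H.equiv₀ (Coh.toAb N) isTerminalTop u : Γ(N, ⊤)) =
        InvX.tmul (s 1) (Sheaf.H.equiv₀ (Coh.toAb N) isTerminalTop v : Γ(N, ⊤)) :=
      (Sheaf.H.equiv₀ (Coh.toAb (CohB1.tensorMod M N)) isTerminalTop).symm.injective (sub_eq_zero.1 huv)
    obtain ⟨hu, hv⟩ := eq_zero_of_tmul_eq hN hom0 s (exists_frames k hdim hM hgg b) _ _ h
    exact Prod.ext ((Sheaf.H.equiv₀ (Coh.toAb N) isTerminalTop).injective (hu.trans (map_zero _).symm))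
      ((Sheaf.H.equiv₀ (Coh.toAb N) isTerminalTop).injective (hv.trans (map_zero _).symm))
  have := LinearMap.finrank_le_finrank_of_injective hinj
  rw [Module.finrank_prod] at this
  omega

end Groth.Agent.CurveCohLib.Pencil
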