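import Groth.Agent.InvUfdLib.Trivial
import Groth.Agent.InvUfdLib.Semilocal
import Groth.Agent.InvUfdLib.Local
import Groth.Agent.QCoh.Submod

/-!
# Submodules of the constant sheaf of rational functions cut out by pointwise pole bounds
-/

universe u

open CategoryTheory CategoryTheory.Limits AlgebraicGeometry TopologicalSpace Opposite

namespace Groth.Agent.CurveCohLib.Polar

open Groth.Agent.AModX Groth.Agent.InvX

variable {X : Scheme.{u}} [IsIntegral X]

local notation "η" => genericPoint X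
local notation "K" => X.functionField

lemma eta_mem {W : X.Opens} {x : X} (hx : x ∈ W) : η ∈ W :=
  ((genericPoint_spec X).mem_open_set_iff W.isOpen).2 ⟨x, trivial, hx⟩

/-- `c` is regular at `z`. -/
def InR (z : X) (c : K) : Prop := c ∈ (algebraMap (X.presheaf.stalk z) K).range

lemma InR.mul {z : X} {c d : K} (hc : InR z c) (hd : InR z d) : InR z (c * d) :=
  (algebraMap (X.presheaf.stalk z) K).range.mul_mem hc hd

lemma InR.add {z : X} {c d : K} (hc : InR z c) (hd : InR z d) : InR z (c + d) :=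
  (algebraMap (X.presheaf.stalk z) K).range.add_mem hc hd

lemma inR_zero (z : X) : InR z (0 : K) := (algebraMap (X.presheaf.stalk z) K).range.zero_mem

lemma inR_one (z : X) : InR z (1 : K) := (algebraMap (X.presheaf.stalk z) K).range.one_mem

lemma InR.pow {z : X} {c : K} (hc : InR z c) (n : ℕ) : InR z (c ^ n) :=
  (algebraMap (X.presheaf.stalk z) K).range.pow_mem hc n

/-- The value at the generic point of a function. -/
noncomputable def gη {W : X.Opens} {x : X} (hx : x ∈ W) : Γ(X, W) →+* K :=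
  (X.presheaf.germ W η (eta_mem hx)).hom

lemma inR_gη {W : X.Opens} {x : X} (hx : x ∈ W) (r : Γ(X, W)) : InR x (gη hx r) := by
  have : Nonempty W := ⟨⟨x, hx⟩⟩
  exact ⟨X.presheaf.germ W x hx r, X.algebraMap_germ_eq_germToFunctionField hx r⟩

lemma gη_res {W W' : X.Opens} (h : W' ≤ W) {x y : X} (hx : x ∈ W') (hy : y ∈ W) (r : Γ(X, W)) :
    gη hx (resR h r) = gη hy r :=
  X.presheaf.germ_res_apply (homOfLE h) η (eta_mem hx) r

lemma gη_injective {W : X.Opens} {x : X} (hx : x ∈ W) : Function.Injective (gη hx) :=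
  germ_injective_of_isIntegral X η (eta_mem hx)

lemma exists_gη_of_inR {z : X} {c : K} (hc : InR z c) :
    ∃ (W : X.Opens) (hz : z ∈ W) (r : Γ(X, W)), gη hz r = c := by
  obtain ⟨m, rfl⟩ := hc
  obtain ⟨W, hz, r, rfl⟩ := X.presheaf.germ_exist m
  have : Nonempty W := ⟨⟨z, hz⟩⟩
  exact ⟨W, hz, r, (X.algebraMap_germ_eq_germToFunctionField hz r).symm⟩

/-- An element regular at every point of an open is a function there. -/
lemma exists_of_forall_inR {W : X.Opens} {c : K} (hc : ∀ z ∈ W, InR z c) :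
    ∃ r : Γ(X, W), ∀ {x : X} (hx : x ∈ W), gη hx r = c := by
  have h := fun z : (W : Set X) => exists_gη_of_inR (hc z.1 z.2)
  choose V hz r hr using h
  obtain ⟨s, hs, -⟩ := existsUnique_glue (M := Coh.structureModule X) (V := W) (fun z : (W : Set X) => V z ⊓ W)
    (fun z => inf_le_right) (fun p hp => ⟨⟨p, hp⟩, hz ⟨p, hp⟩, hp⟩) (fun z => resR inf_le_left (r z)) fun a b => by
      show resR inf_le_left (resR inf_le_left (r a)) = resR inf_le_right (resR inf_le_left (r b))
      rcases Set.eq_empty_or_nonempty (((V a ⊓ W) ⊓ (V b ⊓ W) : X.Opens) : Set X) with he | ⟨p, hp⟩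
      · exact eq_of_locally (M := Coh.structureModule X) _ _ fun p hp =>
          absurd (show p ∈ (((V a ⊓ W) ⊓ (V b ⊓ W) : X.Opens) : Set X) from hp) (by rw [he]; exact Set.notMem_empty p)
      refine gη_injective hp ?_
      rw [gη_res _ hp hp.1, gη_res _ hp.1 (hz a), gη_res _ hp hp.2, gη_res _ hp.2 (hz b), hr a, hr b]
  refine ⟨(show Γ(X, W) from s), fun {x} hx => ?_⟩
  have hmem : x ∈ V ⟨x, hx⟩ ⊓ W := ⟨hz ⟨x, hx⟩, hx⟩
  rw [← gη_res (inf_le_right : V ⟨x, hx⟩ ⊓ W ≤ W) hmem hx, ← hr ⟨x, hx⟩,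
    ← gη_res (inf_le_left : V ⟨x, hx⟩ ⊓ W ≤ V ⟨x, hx⟩) hmem (hz ⟨x, hx⟩)]
  exact congrArg _ (hs ⟨x, hx⟩)

/-! ### The constant sheaf -/

variable (X) in
/-- The sheaf of rational functions. -/
noncomputable def rat : X.Modules :=
  (Scheme.Modules.pushforward (X.fromSpecStalk η)).obj (Coh.structureModule (Spec (X.presheaf.stalk η)))

lemma preimage_eq_top {W : X.Opens} {x : X} (hx : x ∈ W) : ⊤ ≤ (X.fromSpecStalk η) ⁻¹ᵁ W := by
  intro p _
  have hp : p = IsLocalRing.closedPoint (X.presheaf.stalk η) :=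
    (inferInstance : Subsingleton (PrimeSpectrum K)).elim _ _
  show (X.fromSpecStalk η) p ∈ W
  rw [hp, Scheme.fromSpecStalk_closedPoint]
  exact eta_mem hx

/-- The rational function of a section. -/
noncomputable def val {W : X.Opens} {x : X} (hx : x ∈ W) : Γ(rat X, W) →+ K :=
  (Scheme.ΓSpecIso (X.presheaf.stalk η)).hom.hom.toAddMonoidHom.comp
    (resR (preimage_eq_top hx)).toAddMonoidHom

lemma val_res {W W' : X.Opens} (h : W' ≤ W) {x y : X} (hx : x ∈ W') (hy : y ∈ W) (m : Γ(rat X, W)) :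
    val hx (res (rat X) h m) = val hy m := by
  refine congrArg (Scheme.ΓSpecIso (X.presheaf.stalk η)).hom.hom ?_
  exact resR_resR ((X.fromSpecStalk η).preimage_mono h) (preimage_eq_top hx) m

lemma val_smul {W : X.Opens} {x : X} (hx : x ∈ W) (r : Γ(X, W)) (m : Γ(rat X, W)) :
    val hx (r • m) = gη hx r * val hx m := by
  show (Scheme.ΓSpecIso (X.presheaf.stalk η)).hom.hom (resR (preimage_eq_top hx)
    ((X.fromSpecStalk η).app W r * (show Γ(Spec (X.presheaf.stalk η), (X.fromSpecStalk η) ⁻¹ᵁ W) from m))) = _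
  rw [map_mul, map_mul]
  refine congrArg (· * _) ?_
  have e : resR (preimage_eq_top hx) ((X.fromSpecStalk η).app W r) =
      (Scheme.ΓSpecIso (X.presheaf.stalk η)).inv.hom (gη hx r) := by
    rw [Scheme.fromSpecStalk_app (eta_mem hx)]
    show resR _ (resR le_top ((Scheme.ΓSpecIso (X.presheaf.stalk η)).inv.hom (gη hx r))) = _
    rw [resR_resR, resR_self]
  rw [e]
  exact ConcreteCategory.congr_hom (Scheme.ΓSpecIso (X.presheaf.stalk η)).inv_hom_id (gη hx r)

lemma val_injective {W : X.Opens} {x : X} (hx : x ∈ W) : Function.Injective (val hx : Γ(rat X, W) → K) := by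
  intro a b h
  have h' : resR (preimage_eq_top hx) (show Γ(Spec (X.presheaf.stalk η), (X.fromSpecStalk η) ⁻¹ᵁ W) from a) =
      resR (preimage_eq_top hx) (show Γ(Spec (X.presheaf.stalk η), (X.fromSpecStalk η) ⁻¹ᵁ W) from b) :=
    (Scheme.ΓSpecIso (X.presheaf.stalk η)).commRingCatIsoToRingEquiv.injective h
  have := congrArg (resR (le_top : (X.fromSpecStalk η) ⁻¹ᵁ W ≤ ⊤)) h'
  rwa [resR_resR, resR_resR, resR_self, resR_self] at this

lemma val_surjective {W : X.Opens} {x : X} (hx : x ∈ W) (c : K) : ∃ m : Γ(rat X, W), val hx m = c := by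
  refine ⟨(show Γ(rat X, W) from resR (le_top : (X.fromSpecStalk η) ⁻¹ᵁ W ≤ ⊤)
    ((Scheme.ΓSpecIso (X.presheaf.stalk η)).inv.hom c)), ?_⟩
  show (Scheme.ΓSpecIso (X.presheaf.stalk η)).hom.hom (resR _ (resR _ _)) = c
  rw [resR_resR, resR_self]
  exact ConcreteCategory.congr_hom (Scheme.ΓSpecIso (X.presheaf.stalk η)).inv_hom_id c

lemma ext_val {W : X.Opens} {a b : Γ(rat X, W)} (h : ∀ {x : X} (hx : x ∈ W), val hx a = val hx b) : a = b :=
  eq_of_locally a b fun p hp => ⟨W, le_rfl, hp, by rw [val_injective hp (h hp)]⟩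

/-- The constant with a given value, on a nonempty open. -/
noncomputable def cst {W : X.Opens} {x : X} (hx : x ∈ W) (c : K) : Γ(rat X, W) := (val_surjective hx c).choose

lemma val_cst {W : X.Opens} {x y : X} (hx : x ∈ W) (hy : y ∈ W) (c : K) : val hy (cst hx c) = c := by
  have := val_res le_rfl hy hx (cst hx c)
  rw [res_self] at this
  exact this.trans (val_surjective hx c).choose_spec

/-- Multiplication by a rational function. -/
noncomputable def mulRat (c : K) : rat X ⟶ rat X :=
  (Scheme.Modules.pushforward (X.fromSpecStalk η)).map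
    (QCoh.homOfTop (P := Coh.structureModule (Spec (X.presheaf.stalk η)))
      ((Scheme.ΓSpecIso (X.presheaf.stalk η)).inv.hom c))

lemma val_mulRat (c : K) {W : X.Opens} {x : X} (hx : x ∈ W) (m : Γ(rat X, W)) :
    val hx ((mulRat c).app W m) = val hx m * c := by
  have e : (mulRat c).app W m =
      (show Γ(rat X, W) from (show Γ(Spec (X.presheaf.stalk η), (X.fromSpecStalk η) ⁻¹ᵁ W) from m) *
        resR le_top ((Scheme.ΓSpecIso (X.presheaf.stalk η)).inv.hom c)) := by
    show (QCoh.homOfTop _).app ((X.fromSpecStalk η) ⁻¹ᵁ W) _ = _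
    exact QCoh.homOfTop_app _ _
  rw [e]
  show (Scheme.ΓSpecIso (X.presheaf.stalk η)).hom.hom (resR _ (_ * resR _ _)) = _
  rw [map_mul, map_mul, resR_resR, resR_self]
  exact congrArg _ (ConcreteCategory.congr_hom (Scheme.ΓSpecIso (X.presheaf.stalk η)).inv_hom_id c)

/-! ### Pole bounds -/

variable (X) in
/-- Local equations of an effective divisor. -/
structure Eqns where
  A : X → K
  ne : ∀ x, A x ≠ 0
  inR : ∀ x, InR x (A x)
  loc : ∀ x, ∃ U : X.Opens, x ∈ U ∧ ∀ z ∈ U, InR z (A x / A z) ∧ InR z (A z / A x)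

variable (D : Eqns X)

/-- The functions with poles bounded by `n` times the divisor. -/
noncomputable def sub (n : ℕ) : QCoh.SubMod (rat X) where
  mem W :=
    { carrier := {h | ∀ (z : X) (hz : z ∈ W), InR z (D.A z ^ n * val hz h)}
      add_mem' := fun {a b} ha hb z hz => by rw [map_add, mul_add]; exact (ha z hz).add (hb z hz)
      zero_mem' := fun z hz => by rw [map_zero, mul_zero]; exact inR_zero z
      smul_mem' := fun r h hh z hz => by
        rw [val_smul, mul_left_comm]
        exact (inR_gη hz r).mul (hh z hz) }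
  map_mem {W V} i {h} hh := fun z hz => by
    rw [show (rat X).presheaf.map (homOfLE i).op h = res (rat X) i h from rfl, val_res i hz (i hz)]
    exact hh z (i hz)
  of_locally W h hh := fun z hz => by
    obtain ⟨V, i, hzV, hV⟩ := hh z hz
    have := hV z hzV
    rwa [show (rat X).presheaf.map (homOfLE i).op h = res (rat X) i h from rfl, val_res i hzV hz] at this

/-- The module of functions with poles bounded by `n` times the divisor. -/
noncomputable abbrev mod (n : ℕ) : X.Modules := (sub D n).toModules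

/-- The rational function of a section. -/
noncomputable def v {n : ℕ} {W : X.Opens} {x : X} (hx : x ∈ W) (m : Γ(mod D n, W)) : K :=
  val hx ((sub D n).ι.app W m)

variable {D}

lemma v_mem {n : ℕ} {W : X.Opens} {z : X} (hz : z ∈ W) (m : Γ(mod D n, W)) :
    InR z (D.A z ^ n * v D hz m) := (sub D n).ι_app_mem W m z hz

lemma v_res {n : ℕ} {W W' : X.Opens} (h : W' ≤ W) {x y : X} (hx : x ∈ W') (hy : y ∈ W) (m : Γ(mod D n, W)) :
    v D hx (res (mod D n) h m) = v D hy m := by
  unfold v; rw [app_res, val_res h hx hy]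

lemma v_smul {n : ℕ} {W : X.Opens} {x : X} (hx : x ∈ W) (r : Γ(X, W)) (m : Γ(mod D n, W)) :
    v D hx (r • m) = gη hx r * v D hx m := by
  unfold v; rw [Scheme.Modules.Hom.app_smul, val_smul]

lemma v_add {n : ℕ} {W : X.Opens} {x : X} (hx : x ∈ W) (a b : Γ(mod D n, W)) :
    v D hx (a + b) = v D hx a + v D hx b := by
  unfold v; rw [map_add, map_add]

lemma ext_v {n : ℕ} {W : X.Opens} {a b : Γ(mod D n, W)} (h : ∀ {x : X} (hx : x ∈ W), v D hx a = v D hx b) :
    a = b :=
  (sub D n).ι_app_injective W (ext_val fun hx => h hx)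

lemma exists_v {n : ℕ} {W : X.Opens} {x : X} (hx : x ∈ W) {c : K}
    (hc : ∀ z ∈ W, InR z (D.A z ^ n * c)) : ∃ m : Γ(mod D n, W), ∀ {y : X} (hy : y ∈ W), v D hy m = c := by
  obtain ⟨m, hm⟩ := (sub D n).exists_app_eq (s := cst hx c) fun z hz => by rw [val_cst]; exact hc z hz
  exact ⟨m, fun {y} hy => by unfold v; rw [hm, val_cst]⟩

variable (D) in
/-- Near each point the module is free on the inverse of the power of the equation. -/
lemma exists_mod_frame (n : ℕ) (x : X) : ∃ U : X.Opens, x ∈ U ∧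
    ∃ e : Γ(mod D n, U), IsFrame e ∧ ∀ {y : X} (hy : y ∈ U), v D hy e = (D.A x ^ n)⁻¹ := by
  obtain ⟨U, hxU, hU⟩ := D.loc x
  obtain ⟨e, he⟩ := exists_v (n := n) hxU (c := (D.A x ^ n)⁻¹) fun z hz => by
    rw [← div_eq_mul_inv, ← div_pow]; exact (hU z hz).2.pow n
  refine ⟨U, hxU, e, fun W hW => ⟨fun r r' h => ?_, fun m => ?_⟩, he⟩
  · refine eq_of_locally (M := Coh.structureModule X) r r' fun p hp => ⟨W, le_rfl, hp, ?_⟩
    have := congrArg (v D hp) h
    simp only [v_smul, v_res hW hp (hW hp), he (hW hp)] at this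
    rw [gη_injective hp (mul_right_cancel₀ (inv_ne_zero (pow_ne_zero n (D.ne x))) this)]
  rcases Set.eq_empty_or_nonempty (W : Set X) with hW0 | ⟨p, hp⟩
  · exact ⟨0, ext_v fun {y} hy => absurd (show y ∈ (W : Set X) from hy) (by rw [hW0]; exact Set.notMem_empty y)⟩
  obtain ⟨r, hr⟩ := exists_of_forall_inR (W := W) (c := v D hp m * D.A x ^ n) fun z hz => by
    have hv : v D hz m = v D hp m := by rw [← v_res le_rfl hz hp m, res_self]
    have := (v_mem hz m).mul ((hU z (hW hz)).1.pow n)
    rw [hv] at this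
    convert this using 1
    rw [div_pow]
    have := pow_ne_zero n (D.ne z)
    field_simp
  refine ⟨r, ext_v fun {y} hy => ?_⟩
  rw [v_smul, v_res hW hy (hW hy), he (hW hy), hr hy, mul_assoc,
    mul_inv_cancel₀ (pow_ne_zero n (D.ne x)), mul_one, ← v_res le_rfl hy hp m, res_self]

variable (D) in
theorem isInvertible_mod (n : ℕ) : PicF.IsInvertible (mod D n) := fun x => by
  obtain ⟨U, hxU, e, he, -⟩ := exists_mod_frame D n x
  exact ⟨U, hxU, InvUfdLib.nonempty_iso_restrict_of_frame he⟩

variable (D) in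
theorem nonempty_iso_zero : Nonempty (mod D 0 ≅ Coh.structureModule X) := by
  obtain ⟨e, he⟩ := exists_v (D := D) (n := 0) (W := ⊤) (x := η) trivial (c := 1)
    fun z _ => by rw [pow_zero, one_mul]; exact inR_one z
  refine InvUfdLib.nonempty_iso_of_frame (s := e) (InvUfdLib.isFrame_of_cover (U := ⊤)
    (fun x : X => (exists_mod_frame D 0 x).choose) (fun _ => le_top)
    (fun x _ => ⟨x, (exists_mod_frame D 0 x).choose_spec.1⟩) e fun x => ?_)
  obtain ⟨-, f, hf, hfv⟩ := (exists_mod_frame D 0 x).choose_spec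
  convert hf
  refine ext_v fun {y} hy => ?_
  rw [v_res (y := y) le_top hy trivial, he (y := y) trivial, hfv hy, pow_zero, inv_one]

/-! ### Multiplication maps -/

variable (D) in
/-- Multiplication by `c` maps `mod D i` into `mod D j`. -/
def Adm (c : K) (i j : ℕ) : Prop :=
  ∀ (z : X) (h : K), InR z (D.A z ^ i * h) → InR z (D.A z ^ j * (h * c))

lemma adm_of_mem {c : K} {i j m : ℕ} (h : i + m ≤ j) (hc : ∀ z, InR z (D.A z ^ m * c)) : Adm D c i j := by
  intro z e he
  obtain ⟨r, rfl⟩ := Nat.exists_eq_add_of_le h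
  rw [show D.A z ^ (i + m + r) * (e * c) = (D.A z ^ i * e) * (D.A z ^ m * c) * D.A z ^ r by ring]
  exact (he.mul (hc z)).mul ((D.inR z).pow r)

lemma adm_one {i j : ℕ} (h : i ≤ j) : Adm D (1 : K) i j :=
  adm_of_mem (m := 0) (by simpa using h) fun z => by rw [pow_zero, one_mul]; exact inR_one z

lemma Adm.comp {c d : K} {i j l : ℕ} (h : Adm D c i j) (h' : Adm D d j l) : Adm D (c * d) i l :=
  fun z e he => by rw [← mul_assoc e c d]; exact h' z _ (h z e he)

/-- Multiplication by an admissible rational function. -/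
noncomputable def mul {c : K} {i j : ℕ} (h : Adm D c i j) : mod D i ⟶ mod D j where
  val := PresheafOfModules.homMk
    { app := fun W => AddCommGrpCat.ofHom (AddMonoidHom.mk'
        (fun m => (⟨(mulRat c).app W.unop ((sub D i).ι.app W.unop m), fun z hz => by
          rw [val_mulRat]; exact h z _ (v_mem hz m)⟩ : (sub D j).mem W.unop))
        fun a b => Subtype.ext (by
          show (mulRat c).app W.unop ((sub D i).ι.app W.unop (a + b)) =
            (mulRat c).app W.unop ((sub D i).ι.app W.unop a) + (mulRat c).app W.unop ((sub D i).ι.app W.unop b)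
          exact (congrArg _ (map_add ((sub D i).ι.app W.unop).hom a b)).trans (map_add ((mulRat c).app W.unop).hom _ _)))
      naturality := fun V W t => by
        ext m
        refine Subtype.ext ?_
        show (mulRat c).app W.unop ((sub D i).ι.app W.unop (res (mod D i) t.unop.le m)) =
          res (rat X) t.unop.le ((mulRat c).app V.unop ((sub D i).ι.app V.unop m))
        rw [app_res, app_res] }
    fun W r m => Subtype.ext (by
      show (mulRat c).app W.unop ((sub D i).ι.app W.unop (r • m)) = _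
      exact (congrArg _ (Scheme.Modules.Hom.app_smul (sub D i).ι (show Γ(X, W.unop) from r) (show Γ(mod D i, W.unop) from m))).trans
        (Scheme.Modules.Hom.app_smul (mulRat c) (show Γ(X, W.unop) from r) _))

lemma v_mul {c : K} {i j : ℕ} (h : Adm D c i j) {W : X.Opens} {x : X} (hx : x ∈ W) (m : Γ(mod D i, W)) :
    v D hx ((mul h).app W m) = v D hx m * c :=
  val_mulRat c hx _

lemma mul_comp {c d : K} {i j l : ℕ} (h : Adm D c i j) (h' : Adm D d j l) :
    mul h ≫ mul h' = mul (h.comp h') := by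
  refine Scheme.Modules.hom_ext _ _ fun W => ?_
  ext m
  refine ext_v fun {x} hx => ?_
  show v D hx ((mul h').app W ((mul h).app W m)) = _
  rw [v_mul, v_mul, v_mul, mul_assoc]

lemma mul_add_mul {c d : K} {i j : ℕ} (h : Adm D c i j) (h' : Adm D d i j) (h'' : Adm D (c + d) i j) :
    mul h'' = mul h + mul h' := by
  refine Scheme.Modules.hom_ext _ _ fun W => ?_
  ext m
  refine ext_v fun {x} hx => ?_
  show _ = v D hx ((mul h).app W m + (mul h').app W m)
  rw [v_add, v_mul, v_mul, v_mul, mul_add]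

lemma mono_mul {c : K} {i j : ℕ} (h : Adm D c i j) (hc : c ≠ 0) : Mono (mul h) :=
  QCoh.mono_of_app_injective _ fun W a b e => ext_v fun {x} hx => by
    have := congrArg (v D hx) e
    rw [v_mul, v_mul] at this
    exact mul_right_cancel₀ hc this

end Groth.Agent.CurveCohLib.Polar
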