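import Groth.Agent.CurveCohLib.Polar

/-!
# The pole filtration of a nonzero section of an invertible module
-/

universe u

open CategoryTheory CategoryTheory.Limits AlgebraicGeometry TopologicalSpace Opposite

namespace Groth.Agent.CurveCohLib.Polar

open Groth.Agent.AModX Groth.Agent.InvX

variable {X : Scheme.{u}} [IsIntegral X]

local notation "η" => genericPoint X

/-- Mutually inverse morphisms given by matching frames. -/
lemma nonempty_iso_of_frames {M N : X.Modules} {ι : Type u} (U : ι → X.Opens) (hcov : ∀ x, ∃ a, x ∈ U a)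
    (e : ∀ a, Γ(M, U a)) (n : ∀ a, Γ(N, U a)) (he : ∀ a, IsFrame (e a)) (hn : ∀ a, IsFrame (n a))
    (hc : ∀ (a b : ι) (W : X.Opens) (ha : W ≤ U a) (hb : W ≤ U b) (g : Γ(X, W)),
      res M hb (e b) = g • res M ha (e a) → res N hb (n b) = g • res N ha (n a)) :
    Nonempty (M ≅ N) := by
  have hc' : ∀ (a b : ι) (W : X.Opens) (ha : W ≤ U a) (hb : W ≤ U b) (g : Γ(X, W)),
      res N hb (n b) = g • res N ha (n a) → res M hb (e b) = g • res M ha (e a) := by
    intro a b W ha hb g hg
    obtain ⟨g', hg'⟩ := (he a).exists_coord ha (res M hb (e b))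
    have := hc a b W ha hb g' hg'
    rw [hg, ] at this
    rw [(hn a).coord_unique ha this]
    exact hg'
  let φ : M ⟶ N := ofFrames (U := U) (e := e) (n := n) hcov he hc
  let ψ : N ⟶ M := ofFrames (U := U) (e := n) (n := e) hcov hn hc'
  have h1 : ∀ a, φ.app (U a) (e a) = n a := fun a => ofFrames_app hcov he hc a
  have h2 : ∀ a, ψ.app (U a) (n a) = e a := fun a => ofFrames_app hcov hn hc' a
  refine ⟨⟨φ, ψ, hom_ext_of_frames U hcov e he fun a => ?_, hom_ext_of_frames U hcov n hn fun a => ?_⟩⟩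
  · show ψ.app (U a) (φ.app (U a) (e a)) = e a
    rw [h1, h2]
  · show φ.app (U a) (ψ.app (U a) (n a)) = n a
    rw [h2, h1]

theorem exists_eqns {L : X.Modules} (hL : PicF.IsInvertible L) {s : Γ(L, ⊤)} (hs : s ≠ 0) :
    ∃ D : Eqns X, Nonempty (L ≅ mod D 1) := by
  have hfr := fun x => exists_frame hL x
  choose U hxU e he using hfr
  have hc := fun x => (he x).exists_coord (le_refl (U x)) (res L (le_top : U x ≤ ⊤) s)
  choose a ha using hc
  simp only [res_self] at ha
  have hA0 : ∀ x, gη (hxU x) (a x) ≠ 0 := by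
    intro x hx0
    have hax : a x = 0 := gη_injective (hxU x) (hx0.trans (map_zero _).symm)
    refine hs (eq_of_locally _ _ fun y _ => ⟨U y, le_top, hxU y, ?_⟩)
    rw [map_zero, ha y]
    suffices a y = 0 by rw [this, zero_smul]
    have hη : η ∈ U x ⊓ U y := ⟨eta_mem (hxU x), eta_mem (hxU y)⟩
    have hc : resR (inf_le_right : U x ⊓ U y ≤ U y) (a y) = 0 := by
      refine (he y).coord_unique (inf_le_right : U x ⊓ U y ≤ U y) ?_
      have h1 := congrArg (res L (inf_le_right : U x ⊓ U y ≤ U y)) (ha y)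
      have h2 := congrArg (res L (inf_le_left : U x ⊓ U y ≤ U x)) (ha x)
      rw [res_smul, res_res] at h1 h2
      rw [zero_smul, ← h1, h2, hax, map_zero, zero_smul]
    refine gη_injective (hxU y) ?_
    rw [map_zero, ← gη_res (inf_le_right : U x ⊓ U y ≤ U y) hη (hxU y) (a y), hc, map_zero]
  have hcompat : ∀ (x z : X) (W : X.Opens) (hx : W ≤ U x) (hz : W ≤ U z) (g : Γ(X, W)),
      res L hz (e z) = g • res L hx (e x) → resR hx (a x) = resR hz (a z) * g := by
    intro x z W hx hz g hg
    refine (he x).coord_unique hx ?_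
    have h1 := congrArg (res L hx) (ha x)
    have h2 := congrArg (res L hz) (ha z)
    rw [res_smul, res_res] at h1 h2
    rw [mul_smul, ← hg, ← h2, ← h1]
  let D : Eqns X :=
    { A := fun x => gη (hxU x) (a x)
      ne := hA0
      inR := fun x => inR_gη (hxU x) (a x)
      loc := fun x => ⟨U x, hxU x, fun z hz => by
        obtain ⟨g, hgu, hg⟩ := InvUfdLib.exists_unit_of_frames ((he z).res (inf_le_right : U x ⊓ U z ≤ U z))
          ((he x).res (inf_le_left : U x ⊓ U z ≤ U x))
        have hzW : z ∈ U x ⊓ U z := ⟨hz, hxU z⟩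
        have h := congrArg (gη hzW) (hcompat x z _ inf_le_left inf_le_right g hg)
        rw [map_mul, gη_res inf_le_left hzW (hxU x), gη_res inf_le_right hzW (hxU z)] at h
        obtain ⟨b, hb⟩ := hgu.exists_right_inv
        have hgb : gη hzW g * gη hzW b = 1 := by rw [← map_mul, hb, map_one]
        show InR z (gη (hxU x) (a x) / gη (hxU z) (a z)) ∧ InR z (gη (hxU z) (a z) / gη (hxU x) (a x))
        rw [h, mul_div_cancel_left₀ _ (hA0 z), div_mul_cancel_left₀ (hA0 z), ← eq_inv_of_mul_eq_one_right hgb]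
        exact ⟨inR_gη hzW g, inR_gη hzW b⟩⟩ }
  refine ⟨D, ?_⟩
  have hmf := fun x => exists_mod_frame D 1 x
  choose U' hxU' m hm hmv using hmf
  refine nonempty_iso_of_frames (fun x => U x ⊓ U' x) (fun x => ⟨x, hxU x, hxU' x⟩)
    (fun x => res L inf_le_left (e x)) (fun x => res (mod D 1) inf_le_right (m x))
    (fun x => (he x).res _) (fun x => (hm x).res _) fun x z W hx hz g hg => ?_
  rw [res_res, res_res] at hg
  refine ext_v fun {y} hy => ?_
  rw [v_smul, res_res, res_res, v_res _ hy (show y ∈ U' z from (hz hy).2),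
    v_res _ hy (show y ∈ U' x from (hx hy).2), hmv z, hmv x, pow_one, pow_one]
  have h := congrArg (gη hy) (hcompat x z W (hx.trans inf_le_left) (hz.trans inf_le_left) g hg)
  rw [map_mul, gη_res _ hy (hxU x), gη_res _ hy (hxU z)] at h
  show (gη (hxU z) (a z))⁻¹ = gη hy g * (gη (hxU x) (a x))⁻¹
  rw [h]
  have : gη hy g ≠ 0 := fun h0 => hA0 x (by rw [h, h0, mul_zero])
  field_simp

end Groth.Agent.CurveCohLib.Polar
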