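import Groth.Agent.CurveCohLib.PolarHom
import Groth.Agent.CurveCohLib.SectionEqns

/-!
# Curves with a complete linear series of maximal dimension have genus zero
-/

universe u

open CategoryTheory CategoryTheory.Limits AlgebraicGeometry TopologicalSpace Opposite
open Polynomial (aeval)

namespace Groth.Agent.CurveCohLib.Polar

open Groth.Agent.AModX Groth.Agent.InvX
open Groth.Agent.PnCoh.Finite (mapLin)

variable {X : Scheme.{u}} [IsIntegral X] {D : Eqns X}

local notation "η" => genericPoint X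
local notation "K" => X.functionField

variable (k : Type u) [Field k] [X.Over (Spec (CommRingCat.of k))] [IsProper (X ↘ Spec (CommRingCat.of k))]

variable (D) in
/-- The inclusion of one step of the filtration. -/
noncomputable abbrev incl (n : ℕ) : mod D n ⟶ mod D (n + 1) := mul (adm_one (D := D) (Nat.le_succ n))

lemma adm_pow {f : K} (hf : ∀ z, InR z (D.A z * f)) {i j m : ℕ} (h : i + m ≤ j) : Adm D (f ^ m) i j :=
  adm_of_mem (m := m) h fun z => by rw [← mul_pow]; exact (hf z).pow m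


omit [IsProper (X ↘ Spec (CommRingCat.of k))] in
/-- A combination of powers of `f` acts as a polynomial in the endomorphism. -/
lemma exists_mapLin_sum {f : K} {m N : ℕ} (φ : Coh.HH X (mod D 0) N →ₗ[k] Coh.HH X (mod D 0) N)
    (hT : ∀ i (_ : i ≤ m) (h : Adm D (f ^ i) 0 m) (h1 : Adm D (1 : K) 0 m),
      mapLin k (mul h) N = mapLin k (mul h1) N ∘ₗ φ ^ i)
    (hf : ∀ z, InR z (D.A z * f)) (c : ℕ → k) :
    ∀ t, t ≤ m + 1 → ∃ h : Adm D (∑ i ∈ Finset.range t, cK k (c i) * f ^ i) 0 m,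
      mapLin k (mul h) N =
        mapLin k (mul (adm_one (D := D) (Nat.zero_le m))) N ∘ₗ (∑ i ∈ Finset.range t, c i • φ ^ i) := by
  intro t
  induction t with
  | zero =>
    intro _
    have h0 : Adm D (0 : K) 0 m := fun z e _ => by rw [mul_zero, mul_zero]; exact inR_zero z
    have : Adm D (∑ i ∈ Finset.range 0, cK k (c i) * f ^ i) 0 m := by rwa [Finset.sum_range_zero]
    refine ⟨this, ?_⟩
    have e : (∑ i ∈ Finset.range 0, c i • φ ^ i) = 0 := Finset.sum_range_zero _
    rw [e, LinearMap.comp_zero, ← mapLin_mul_zero k h0 N]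
    congr 2

  | succ t ih =>
    intro ht
    obtain ⟨h, hh⟩ := ih (by omega)
    have hp : Adm D (f ^ t) 0 m := adm_pow hf (by omega)
    have hsum : Adm D ((∑ i ∈ Finset.range t, cK k (c i) * f ^ i) + cK k (c t) * f ^ t) 0 m := fun z e he => by
      rw [mul_add, mul_add]; exact (h z e he).add (hp.cK_mul k (c t) z e he)
    have : Adm D (∑ i ∈ Finset.range (t + 1), cK k (c i) * f ^ i) 0 m := by rwa [Finset.sum_range_succ]
    refine ⟨this, ?_⟩
    rw [show mapLin k (mul this) N = mapLin k (mul hsum) N by congr 2; exact Finset.sum_range_succ _ _,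
      mapLin_mul_add k h (hp.cK_mul k (c t)) hsum, hh, mapLin_cK_mul k hp (c t),
      hT t (by omega) hp (adm_one (Nat.zero_le m)), Finset.sum_range_succ, LinearMap.comp_add, LinearMap.comp_smul]

omit [IsProper (X ↘ Spec (CommRingCat.of k))] in
/-- A global section of `mod D 1` inducing the tautological section of the cokernel gives a function with maximal poles. -/
lemma hkey_of_section (F : Coh.HH X (mod D 1) 0) (Fs : Γ(mod D 1, ⊤))
    (hFs : Fs = Sheaf.H.equiv₀ (Coh.toAb (mod D 1)) isTerminalTop F)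
    (z : X) (Uf : X.Opens) (hzU : z ∈ Uf) (ef : Γ(mod D 1, Uf)) (hvf : v D hzU ef = (D.A z ^ 1)⁻¹)
    (hgerm : (cokernel (incl D 0)).presheaf.germ ⊤ z trivial ((cokernel.π (incl D 0)).app ⊤ Fs) =
        (cokernel (incl D 0)).presheaf.germ Uf z hzU ((cokernel.π (incl D 0)).app Uf ef)) :
    InR z (v0 F - (D.A z)⁻¹) := by
  haveI : Mono (incl D 0) := mono_mul _ one_ne_zero
  obtain ⟨W, hzW, i₁, i₂, hW⟩ := (cokernel (incl D 0)).presheaf.germ_eq (U := ⊤) z trivial hzU _ _ hgerm
  have hdiff : (cokernel.π (incl D 0)).app W (res (mod D 1) i₁.le Fs - res (mod D 1) i₂.le ef) = 0 := by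
    rw [map_sub, app_res, app_res, sub_eq_zero]
    exact hW
  obtain ⟨V, iV, hzV, a, ha₀⟩ := QCoh.exists_local_range (incl D 0) _ hdiff hzW
  have ha : (incl D 0).app V a = res (mod D 1) iV (res (mod D 1) i₁.le Fs - res (mod D 1) i₂.le ef) := ha₀
  have hm : InR z (D.A z ^ 0 * v D hzV a) := v_mem hzV a
  rw [pow_zero, one_mul] at hm
  have e := congrArg (v D hzV) ha
  rw [v_mul, mul_one] at e
  have hv0 : v0 F = v D (W := (⊤ : X.Opens)) (x := z) trivial Fs := by rw [hFs]; rfl
  have e2 : v D hzV (res (mod D 1) iV (res (mod D 1) i₁.le Fs - res (mod D 1) i₂.le ef)) = v0 F - (D.A z)⁻¹ := by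
    rw [map_sub, res_res, res_res, eq_sub_iff_add_eq]
    have h1 := v_add hzV (res (mod D 1) (iV.trans i₁.le) Fs - res (mod D 1) (iV.trans i₂.le) ef)
      (res (mod D 1) (iV.trans i₂.le) ef)
    rw [sub_add_cancel, v_res (W := ⊤) (y := z) _ hzV trivial, v_res _ hzV hzU, hvf, pow_one, ← hv0] at h1
    exact h1.symm
  rwa [e, e2] at hm

omit [IsProper (X ↘ Spec (CommRingCat.of k))] in
lemma exists_not_unitR (hd : Curv2.euler k X (mod D 1) ≠ Curv2.euler k X (mod D 0)) :
    ∃ z, ¬ UnitR z (D.A z) := by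
  by_contra hall
  push Not at hall
  haveI : Mono (incl D 0) := mono_mul _ one_ne_zero
  have : IsIso (incl D 0) := by
    rw [Scheme.Modules.Hom.isIso_iff_isIso_app]
    intro W
    rw [ConcreteCategory.isIso_iff_bijective]
    exact ⟨QCoh.app_injective _ W, mul_app_surjective _ one_ne_zero fun y _ =>
      ⟨hall y, inR_one y, by rw [inv_one]; exact inR_one y⟩⟩
  exact hd (euler_congr (k := k) (asIso (incl D 0))).symm

omit [IsProper (X ↘ Spec (CommRingCat.of k))] in
lemma epi_step {f : K} (hor : ∀ z, UnitR z (D.A z) ∨ UnitR z (D.A z * f)) (hf0 : f ≠ 0) (n : ℕ)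
    (Gn' : mod D 1 ⟶ mod D (n + 1))
    (hG : ∀ {x : X} {W : X.Opens} (hx : x ∈ W) (m : Γ(mod D 1, W)), v D hx (Gn'.app W m) = v D hx m * f ^ n)
    (ψ : cokernel (incl D 0) ⟶ cokernel (incl D n))
    (hψ : cokernel.π (incl D 0) ≫ ψ = Gn' ≫ cokernel.π (incl D n)) : Epi ψ := by
  refine ⟨fun {Z} g g' hg => ?_⟩
  rw [← cancel_epi (cokernel.π (incl D n))]
  refine Scheme.Modules.hom_ext _ _ fun W => ?_
  ext m
  refine eq_of_locally _ _ fun z hz => ?_
  have hkill : ∀ (V : X.Opens) (hV : V ≤ W), ((∃ t, (incl D n).app V t = res (mod D (n + 1)) hV m) ∨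
      (∃ t, Gn'.app V t = res (mod D (n + 1)) hV m)) →
      res Z hV ((cokernel.π (incl D n) ≫ g).app W m) = res Z hV ((cokernel.π (incl D n) ≫ g').app W m) := by
    intro V hV ht
    rw [← app_res, ← app_res]
    rcases ht with ⟨t, ht⟩ | ⟨t, ht⟩ <;> rw [← ht]
    · show g.app V ((cokernel.π (incl D n)).app V ((incl D n).app V t)) =
        g'.app V ((cokernel.π (incl D n)).app V ((incl D n).app V t))
      rw [QCoh.cokernel_π_app_app, map_zero, map_zero]
    · have h1 : Gn' ≫ cokernel.π (incl D n) = cokernel.π (incl D 0) ≫ ψ := hψ.symm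
      have h2 : Gn' ≫ cokernel.π (incl D n) ≫ g = Gn' ≫ cokernel.π (incl D n) ≫ g' := by
        rw [← Category.assoc, ← Category.assoc, h1, Category.assoc, Category.assoc, hg]
      exact congrArg (fun φ : mod D 1 ⟶ Z => φ.app V t) h2
  rcases hor z with hu | hu
  · obtain ⟨V, hzV, hV⟩ := exists_nhd_unit hu
    exact ⟨V ⊓ W, inf_le_right, ⟨hzV, hz⟩, hkill _ _ (Or.inl (mul_app_surjective _ one_ne_zero
      (fun y (hy : y ∈ V ⊓ W) => ⟨hV y hy.1, inR_one y, by rw [inv_one]; exact inR_one y⟩) _))⟩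
  · obtain ⟨V, hzV, hV⟩ := exists_nhd_unit_mul hu
    refine ⟨V ⊓ W, inf_le_right, ⟨hzV, hz⟩, hkill _ _ (Or.inr ?_)⟩
    obtain ⟨g₀, hg₀⟩ := exists_v (D := D) (n := 1) (W := V ⊓ W) (x := z) ⟨hzV, hz⟩
      (c := v D hz m * (f ^ n)⁻¹) fun y (hy : y ∈ V ⊓ W) => by
      have h1 : InR y (D.A y ^ (n + 1) * v D hy.2 m) := v_mem hy.2 m
      have h2 := h1.mul ((hV y hy.1).2.pow n)
      convert h2 using 1
      have := D.ne y
      show D.A y ^ 1 * (v D hy.2 m * (f ^ n)⁻¹) = _
      rw [inv_pow, mul_pow, pow_one]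
      field_simp
      ring
    refine ⟨g₀, ext_v fun {y} hy => ?_⟩
    rw [hG, hg₀ hy, mul_assoc, inv_mul_cancel₀ (pow_ne_zero n hf0), mul_one, v_res _ hy (y := z) hz]

omit [IsProper (X ↘ Spec (CommRingCat.of k))] [IsIntegral X] in
lemma closed_support_kernel {M N : X.Modules} (ψ : M ⟶ N) (hsupp : ∀ x ∈ CohB1.support M, IsClosed ({x} : Set X)) :
    ∀ x ∈ CohB1.support (kernel ψ), IsClosed ({x} : Set X) := fun x hx => by
  refine hsupp x fun hsub => hx (subsingleton_of_forall_eq 0 fun m => ?_)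
  obtain ⟨W, hxW, w, rfl⟩ := (kernel ψ).presheaf.exists_germ_eq m
  obtain ⟨V, hxV, i, j, he⟩ := M.presheaf.germ_eq x hxW hxW ((kernel.ι ψ).app W w) 0 (hsub.elim _ _)
  have he' : (kernel ψ).presheaf.map i.op w = 0 := by
    refine QCoh.app_injective (kernel.ι ψ) V ?_
    rw [QCoh.map_app_comm, map_zero]
    exact he.trans (map_zero _)
  rw [← (kernel ψ).presheaf.germ_res_apply i x hxV w, he', map_zero]

lemma incl_comm {g : K} (n : ℕ) (h : Adm D g 0 n) (h' : Adm D g 1 (n + 1)) :
    incl D 0 ≫ mul h' = mul h ≫ incl D n := by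
  rw [mul_comp, mul_comp]
  congr 1
  ring

lemma euler_le_of_epi {A B : X.Modules} (hA : Coh.IsCoh A) (hB : Coh.IsCoh B) (ψ : A ⟶ B) [Epi ψ]
    (hs : ∀ x ∈ CohB1.support A, IsClosed ({x} : Set X)) :
    Curv2.euler k X B ≤ Curv2.euler k X A := by
  haveI := isNoetherian_of_proper (k := k) (X := X)
  let S := ShortComplex.mk (kernel.ι ψ) ψ (kernel.condition ψ)
  have hS : S.ShortExact := { exact := ShortComplex.exact_of_f_is_kernel _ (kernelIsKernel ψ) }
  have hK : Coh.IsCoh (kernel ψ) := QCoh.isCoh_kernel hA hB ψ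
  have e1 : Curv2.euler k X A = Curv2.euler k X (kernel ψ) + Curv2.euler k X B :=
    euler_additive (k := k) (S := S) hS hK hA hB
  have hpos : (0 : ℤ) ≤ Curv2.euler k X (kernel ψ) := by
    rw [euler_eq_finrank_zero (k := k) hK (closed_support_kernel ψ hs)]; exact Int.natCast_nonneg _
  linarith

lemma euler_cokernel {A B : X.Modules} (ι : A ⟶ B) [Mono ι] (hA : Coh.IsCoh A) (hB : Coh.IsCoh B) :
    Curv2.euler k X (cokernel ι) = Curv2.euler k X B - Curv2.euler k X A := by
  haveI := isNoetherian_of_proper (k := k) (X := X)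
  let S := ShortComplex.mk ι (cokernel.π ι) (cokernel.condition _)
  have hS : S.ShortExact := { exact := ShortComplex.exact_of_g_is_cokernel _ (cokernelIsCokernel _) }
  have hC : Coh.IsCoh (cokernel ι) := QCoh.isCoh_cokernel hA.1 hB ι
  have e : Curv2.euler k X B = Curv2.euler k X A + Curv2.euler k X (cokernel ι) :=
    euler_additive (k := k) (S := S) hS hA hB hC
  linarith

/-- Growth of Euler characteristics. -/
lemma euler_step (hdim : topologicalKrullDim X = 1) {f : K} (hf1 : ∀ z, InR z (D.A z * f))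
    (hor : ∀ z, UnitR z (D.A z) ∨ UnitR z (D.A z * f)) (hf0 : f ≠ 0) (n : ℕ) :
    Curv2.euler k X (mod D (n + 1)) - Curv2.euler k X (mod D n) ≤
      Curv2.euler k X (mod D 1) - Curv2.euler k X (mod D 0) := by
  haveI := isNoetherian_of_proper (k := k) (X := X)
  haveI : ∀ n, Mono (incl D n) := fun n => mono_mul _ one_ne_zero
  have hC : Coh.IsCoh (cokernel (incl D 0)) := QCoh.isCoh_cokernel (isCoh_mod D 0).1 (isCoh_mod D 1) _
  have hsupp : ∀ n, ∀ x ∈ CohB1.support (cokernel (incl D n)), IsClosed ({x} : Set X) := fun n =>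
    closed_support_cokernel_mul hdim _ one_ne_zero
  let Gn : mod D 0 ⟶ mod D n := mul (adm_pow (D := D) hf1 (show 0 + n ≤ n by omega))
  let Gn' : mod D 1 ⟶ mod D (n + 1) := mul (adm_pow (D := D) hf1 (show 1 + n ≤ n + 1 by omega))
  have hcomm : incl D 0 ≫ Gn' = Gn ≫ incl D n := incl_comm _ _ _
  let ψ := cokernel.map (incl D 0) (incl D n) Gn Gn' hcomm
  have hψ : Epi ψ := epi_step hor hf0 n Gn' (fun {x W} hx m => v_mul _ hx m) ψ (cokernel.π_desc _ _ _)
  have hCn : Coh.IsCoh (cokernel (incl D n)) := QCoh.isCoh_cokernel (isCoh_mod D n).1 (isCoh_mod D (n + 1)) _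
  have e1 := euler_le_of_epi (k := k) hC hCn ψ (hsupp 0)
  have e3 := euler_cokernel (k := k) (incl D 0) (isCoh_mod D 0) (isCoh_mod D 1)
  have e4 := euler_cokernel (k := k) (incl D n) (isCoh_mod D n) (isCoh_mod D (n + 1))
  rw [e3, e4] at e1
  exact e1

lemma euler_le (hdim : topologicalKrullDim X = 1) {f : K} (hf1 : ∀ z, InR z (D.A z * f))
    (hor : ∀ z, UnitR z (D.A z) ∨ UnitR z (D.A z * f)) (hf0 : f ≠ 0) (n : ℕ) :
    Curv2.euler k X (mod D n) - Curv2.euler k X (mod D 0) ≤
      n * (Curv2.euler k X (mod D 1) - Curv2.euler k X (mod D 0)) := by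
  induction n with
  | zero => simp
  | succ n ih => have := euler_step (k := k) hdim hf1 hor hf0 n; push_cast; linarith

/-- Growth of sections. -/
lemma h0_ge {f : K} (hf1 : ∀ z, InR z (D.A z * f))
    (hor : ∀ z, UnitR z (D.A z) ∨ UnitR z (D.A z * f)) (hf0 : f ≠ 0)
    (h0 : Module.finrank k (Coh.HH X (mod D 0) 0) = 1) (n : ℕ) :
    (1 : ℤ) + n * ((Module.finrank k (Coh.HH X (mod D 1) 0) : ℤ) - 1) ≤
      Module.finrank k (Coh.HH X (mod D n) 0) := by
  haveI := isNoetherian_of_proper (k := k) (X := X)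
  haveI hfin : ∀ n i, Module.Finite k (Coh.HH X (mod D n) i) := fun n i => finite_HH (k := k) (isCoh_mod D n) i
  obtain ⟨C, hC'⟩ := (LinearMap.range (mapLin k (incl D 0) 0)).exists_isCompl
  have hιinj : ∀ n, Function.Injective (mapLin k (incl D n) 0) := fun n a b h => by
    apply v0_injective
    have := congrArg v0 h
    rwa [v0_mul, v0_mul, mul_one, mul_one] at this
  have hCrank : (Module.finrank k C : ℤ) = (Module.finrank k (Coh.HH X (mod D 1) 0) : ℤ) - 1 := by
    have := Submodule.finrank_add_eq_of_isCompl hC'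
    rw [LinearMap.finrank_range_of_inj (hιinj 0), h0] at this
    rw [← this]; push_cast; ring
  rw [← hCrank]
  induction n with
  | zero => simp [h0]
  | succ n ih =>
    let G := mapLin k (mul (adm_pow (D := D) hf1 (show 1 + n ≤ n + 1 by omega))) 0
    let Φ := LinearMap.coprod (mapLin k (incl D n) 0) (G ∘ₗ C.subtype)
    have hΦ : Function.Injective Φ := by
      rw [injective_iff_map_eq_zero]
      rintro ⟨h, g⟩ hhg
      have e := congrArg v0 hhg
      rw [map_zero] at e
      change v0 (mapLin k (incl D n) 0 h + G g.1) = 0 at e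
      rw [map_add, v0_mul, mul_one, v0_mul] at e
      have hg : ∀ z, InR z (D.A z ^ 0 * v0 g.1) := by
        intro z
        rw [pow_zero, one_mul]
        have hg1 : InR z (D.A z ^ 1 * v0 g.1) := v0_mem g.1 z
        rcases hor z with hu | hu
        · have := hg1.mul hu.2
          rwa [pow_one, mul_comm (D.A z), mul_assoc, mul_inv_cancel₀ (D.ne z), mul_one] at this
        · have h3 : InR z (D.A z ^ n * (v0 g.1 * f ^ n)) := by
            rw [show v0 g.1 * f ^ n = (-1) * v0 h by linear_combination e, mul_left_comm]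
            exact (InR.mul ⟨-1, by rw [map_neg, map_one]⟩ (v0_mem h z))
          have := h3.mul (hu.2.pow n)
          convert this using 1
          have := D.ne z
          rw [inv_pow, mul_pow]
          field_simp
      obtain ⟨g', hg'⟩ := exists_v0 hg
      have hgr : g.1 ∈ LinearMap.range (mapLin k (incl D 0) 0) :=
        ⟨g', v0_injective (by rw [v0_mul, mul_one, hg'])⟩
      have hg0 : g.1 = 0 := by
        have := hC'.disjoint.le_bot ⟨hgr, g.2⟩
        simpa using this
      rw [hg0, map_zero, zero_mul, add_zero] at e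
      exact Prod.ext (v0_injective (e.trans (map_zero _).symm)) (Subtype.ext hg0)
    have := LinearMap.finrank_le_finrank_of_injective hΦ
    rw [Module.finrank_prod] at this
    push_cast
    have h2 : ((Module.finrank k (Coh.HH X (mod D n) 0) : ℤ)) + Module.finrank k C ≤
        Module.finrank k (Coh.HH X (mod D (n + 1)) 0) := by exact_mod_cast this
    linarith

/-- The endomorphism argument. -/
lemma subsingleton_h1_of_injective {f : K} (hf1 : ∀ z, InR z (D.A z * f)) {z₀ : X}
    (hz₀ : ¬ UnitR z₀ (D.A z₀)) (hz₀f : UnitR z₀ (D.A z₀ * f)) (hf0 : f ≠ 0)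
    (hι1 : Function.Bijective (mapLin k (incl D 0) 1))
    (hinj : ∀ {c : K} {m : ℕ} (h : Adm D c 0 m), c ≠ 0 → Function.Injective (mapLin k (mul h) 1)) :
    Subsingleton (Coh.HH X (mod D 0) 1) := by
  haveI := isNoetherian_of_proper (k := k) (X := X)
  haveI : Module.Finite k (Coh.HH X (mod D 0) 1) := finite_HH (k := k) (isCoh_mod D 0) 1
  let e := LinearEquiv.ofBijective (mapLin k (incl D 0) 1) hι1
  let φ : Coh.HH X (mod D 0) 1 →ₗ[k] Coh.HH X (mod D 0) 1 :=
    e.symm.toLinearMap ∘ₗ mapLin k (mul (adm_pow (D := D) hf1 (show 0 + 1 ≤ 1 by omega))) 1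
  have hφ : mapLin k (incl D 0) 1 ∘ₗ φ = mapLin k (mul (adm_pow (D := D) hf1 (show 0 + 1 ≤ 1 by omega))) 1 :=
    LinearMap.ext fun x => e.apply_symm_apply _
  have hT : ∀ m i (_ : i ≤ m) (h : Adm D (f ^ i) 0 m) (h1 : Adm D (1 : K) 0 m),
      mapLin k (mul h) 1 = mapLin k (mul h1) 1 ∘ₗ φ ^ i := by
    intro m i
    induction i with
    | zero =>
      intro _ h h1
      refine (show mapLin k (mul h) 1 = mapLin k (mul h1) 1 by congr 2; exact pow_zero f).trans ?_
      rw [pow_zero, Module.End.one_eq_id, LinearMap.comp_id]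
    | succ i ih =>
      intro hi h h1
      have h' : Adm D (f ^ i) 1 m := adm_pow hf1 (by omega)
      have hi' : Adm D (f ^ i) 0 m := adm_pow hf1 (by omega)
      have hp1 : Adm D (f ^ 1) 0 1 := adm_pow hf1 le_rfl
      have h01 : Adm D (1 : K) 0 1 := adm_one (Nat.zero_le 1)
      have e1 : mapLin k (mul h) 1 = mapLin k (mul (hp1.comp h')) 1 := by congr 2; rw [pow_one, pow_succ']
      have e2 : mapLin k (mul hi') 1 = mapLin k (mul (h01.comp h')) 1 := by congr 2; rw [one_mul]
      have e3 : mapLin k (mul hp1) 1 = mapLin k (mul h01) 1 ∘ₗ φ := hφ.symm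
      rw [e1, mapLin_mul_comp k hp1 h', e3, ← LinearMap.comp_assoc, ← mapLin_mul_comp k h01 h', ← e2,
        ih (by omega) hi' h1, LinearMap.comp_assoc, pow_succ, Module.End.mul_eq_comp]
  refine subsingleton_of_aeval_injective φ fun p hp hdeg => ?_
  obtain ⟨hG, hGe⟩ := exists_mapLin_sum (X := X) (D := D) k (f := f) (m := p.natDegree) φ (hT p.natDegree) hf1 p.coeff
    (p.natDegree + 1) le_rfl
  have hne : (∑ i ∈ Finset.range (p.natDegree + 1), cK (X := X) k (p.coeff i) * f ^ i) ≠ 0 := by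
    intro hzero
    set m := p.natDegree
    obtain ⟨α, hα⟩ := D.inR z₀
    have hαn : ¬ IsUnit α := fun h => hz₀ (hα ▸ unitR_of_isUnit h)
    obtain ⟨⟨β, hβ⟩, ⟨β', hβ'⟩⟩ := hz₀f
    have hβu : IsUnit β := IsUnit.of_mul_eq_one β' (IsFractionRing.injective (X.presheaf.stalk z₀) K (by
      rw [map_mul, hβ, hβ', map_one, mul_inv_cancel₀ (mul_ne_zero (D.ne z₀) hf0)]))
    have hκ : ∀ i, ∃ κ : X.presheaf.stalk z₀, algebraMap _ K κ = cK k (p.coeff i) := fun i => inR_cK k z₀ _
    choose κ hκ using hκ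
    have hEmem : ∑ i ∈ Finset.range m, κ i * β ^ i * α ^ (m - i) ∈ IsLocalRing.maximalIdeal (X.presheaf.stalk z₀) :=
      Ideal.sum_mem _ fun i hi => Ideal.mul_mem_left _ _
        (Ideal.pow_mem_of_mem _ hαn _ (by have := Finset.mem_range.1 hi; omega))
    have hu : IsUnit (∑ i ∈ Finset.range (m + 1), κ i * β ^ i * α ^ (m - i)) := by
      rw [Finset.sum_range_succ, Nat.sub_self, pow_zero, mul_one]
      have hκm : κ m = 1 := IsFractionRing.injective (X.presheaf.stalk z₀) K (by
        rw [hκ, map_one, show p.coeff m = 1 from hp.coeff_natDegree, map_one])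
      rw [hκm, one_mul, ← IsLocalRing.notMem_maximalIdeal]
      exact fun h => IsLocalRing.notMem_maximalIdeal.2 (hβu.pow m) ((Ideal.add_mem_iff_right _ hEmem).1 h)
    have h1 : algebraMap (X.presheaf.stalk z₀) K (∑ i ∈ Finset.range (m + 1), κ i * β ^ i * α ^ (m - i)) = 0 := by
      rw [map_sum, ← mul_zero (D.A z₀ ^ m), ← hzero, Finset.mul_sum]
      refine Finset.sum_congr rfl fun i hi => ?_
      have := Finset.mem_range.1 hi
      rw [map_mul, map_mul, map_pow, map_pow, hκ, hα, hβ]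
      conv_rhs => rw [show m = i + (m - i) by omega, pow_add]
      ring
    exact (hu.map (algebraMap (X.presheaf.stalk z₀) K)).ne_zero h1
  have hi := hinj hG hne
  rw [hGe, ← Polynomial.aeval_eq_sum_range] at hi
  exact fun a b hab => hi (by rw [LinearMap.comp_apply, LinearMap.comp_apply, hab])

/-- The key statement. -/
theorem h0_le_and_genus_zero (hdim : topologicalKrullDim X = 1)
    (h0 : Module.finrank k (Coh.HH X (mod D 0) 0) = 1) :
    (Module.finrank k (Coh.HH X (mod D 1) 0) : ℤ) ≤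
        1 + (Curv2.euler k X (mod D 1) - Curv2.euler k X (mod D 0)) ∧
      ((Module.finrank k (Coh.HH X (mod D 1) 0) : ℤ) =
          1 + (Curv2.euler k X (mod D 1) - Curv2.euler k X (mod D 0)) →
        0 < Curv2.euler k X (mod D 1) - Curv2.euler k X (mod D 0) →
        Subsingleton (Coh.HH X (mod D 0) 1)) := by
  haveI := isNoetherian_of_proper (k := k) (X := X)
  haveI : Mono (incl D 0) := mono_mul _ one_ne_zero
  have hsupp : ∀ x ∈ CohB1.support (cokernel (incl D 0)), IsClosed ({x} : Set X) :=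
    closed_support_cokernel_mul hdim _ one_ne_zero
  obtain ⟨hle, heq, hι1surj⟩ := finrank_h0_le_and_injective (k := k) (incl D 0) (isCoh_mod D 0) (isCoh_mod D 1) hsupp
  rw [h0, Nat.cast_one] at hle heq
  refine ⟨hle, fun hmax hd => ?_⟩
  obtain ⟨hι1inj, hπsurj⟩ := heq hmax.ge
  -- a function with maximal poles
  have hC : Coh.IsCoh (cokernel (incl D 0)) := QCoh.isCoh_cokernel (isCoh_mod D 0).1 (isCoh_mod D 1) _
  have hfinS := finite_of_closedPoints (QCoh.isClosed_support_of_isFT hC.1 hC.2) hsupp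
  obtain ⟨eq₀, heq₀⟩ := exists_h0Equiv (k := k) hC hsupp hfinS.toFinset (by rw [Set.Finite.coe_toFinset])
  have hmf := fun x => exists_mod_frame D 1 x
  choose Uf hxUf ef hef hvf using hmf
  obtain ⟨τ, hτ⟩ := eq₀.surjective fun x =>
    (cokernel (incl D 0)).presheaf.germ (Uf x.1) x.1 (hxUf x.1) ((cokernel.π (incl D 0)).app (Uf x.1) (ef x.1))
  obtain ⟨F, hF⟩ := hπsurj τ
  have hkey : ∀ z, InR z (v0 F - (D.A z)⁻¹) := by
    intro z
    refine hkey_of_section F _ rfl z (Uf z) (hxUf z) (ef z) (hvf z (hxUf z)) ?_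
    by_cases hz : z ∈ CohB1.support (cokernel (incl D 0))
    · refine Eq.trans ?_ (congrFun hτ ⟨z, hfinS.mem_toFinset.2 hz⟩)
      rw [heq₀, ← hF]
      exact congrArg _ (Sheaf.H.equiv₀_naturality isTerminalTop ((QCoh.toAbFunctor X).map (cokernel.π (incl D 0))) F)
    · exact (not_not.1 hz : Subsingleton ((cokernel (incl D 0)).presheaf.stalk z)).elim _ _
  have hf1 : ∀ z, InR z (D.A z * v0 F) := fun z => by simpa using v0_mem F z
  have hor : ∀ z, UnitR z (D.A z) ∨ UnitR z (D.A z * v0 F) := fun z => unitR_or (D.ne z) (D.inR z) (hkey z)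
  obtain ⟨z₀, hz₀⟩ := exists_not_unitR (D := D) k fun e => (sub_pos.1 hd).ne' e
  have hz₀f : UnitR z₀ (D.A z₀ * v0 F) := (hor z₀).resolve_left hz₀
  have hf0 : v0 F ≠ 0 := by
    intro hf
    refine hz₀ ⟨D.inR z₀, ?_⟩
    obtain ⟨β, hβ⟩ := hkey z₀
    exact ⟨-β, by rw [map_neg, hβ, hf, zero_sub, neg_neg]⟩
  refine subsingleton_h1_of_injective k hf1 hz₀ hz₀f hf0 ⟨hι1inj, hι1surj⟩ fun {c m} h hc => ?_
  haveI := mono_mul h hc
  refine ((finrank_h0_le_and_injective (k := k) (mul h) (isCoh_mod D 0) (isCoh_mod D m)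
    (closed_support_cokernel_mul hdim h hc)).2.1 ?_).1
  have h1 := euler_le (k := k) hdim hf1 hor hf0 m
  have h2 := h0_ge (k := k) hf1 hor hf0 h0 m
  rw [hmax, add_sub_cancel_left] at h2
  rw [h0]
  push_cast
  linarith

end Groth.Agent.CurveCohLib.Polar
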