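import Groth.Agent.CurveCohLib.Polar
import Groth.Agent.CurveCohLib.Skyscraper
import Groth.Agent.CurveCohLib.Rank
import Groth.Agent.H23.PullPush
import Groth.Agent.QCoh.CokerQC

/-!
# Maps between modules of bounded poles on a curve
-/

universe u

open CategoryTheory CategoryTheory.Limits AlgebraicGeometry TopologicalSpace Opposite

namespace Groth.Agent.CurveCohLib.Polar

open Groth.Agent.AModX Groth.Agent.InvX
open Groth.Agent.PnCoh.Finite (mapLin)

variable {X : Scheme.{u}} [IsIntegral X] {D : Eqns X}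

local notation "η" => genericPoint X
local notation "K" => X.functionField

/-- `c` is a unit at `z`. -/
def UnitR (z : X) (c : K) : Prop := InR z c ∧ InR z c⁻¹

lemma UnitR.mul {z : X} {c d : K} (h : UnitR z c) (h' : UnitR z d) : UnitR z (c * d) :=
  ⟨h.1.mul h'.1, by rw [mul_inv]; exact h.2.mul h'.2⟩

lemma unitR_of_isUnit {z : X} {a : X.presheaf.stalk z} (h : IsUnit a) :
    UnitR z (algebraMap (X.presheaf.stalk z) K a) := by
  obtain ⟨b, hb⟩ := h.exists_right_inv
  refine ⟨⟨a, rfl⟩, b, ?_⟩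
  exact eq_inv_of_mul_eq_one_right (by rw [← map_mul, hb, map_one])

lemma UnitR.spread {z : X} {c : K} (h : UnitR z c) : ∃ V : X.Opens, z ∈ V ∧ ∀ y ∈ V, UnitR y c := by
  obtain ⟨W₁, hz₁, r₁, hr₁⟩ := exists_gη_of_inR h.1
  obtain ⟨W₂, hz₂, r₂, hr₂⟩ := exists_gη_of_inR h.2
  refine ⟨W₁ ⊓ W₂, ⟨hz₁, hz₂⟩, fun y hy => ⟨?_, ?_⟩⟩
  · rw [← hr₁]; exact inR_gη hy.1 r₁
  · rw [← hr₂]; exact inR_gη hy.2 r₂

/-- The unit dichotomy for `f = a⁻¹ + r`. -/
lemma unitR_or {z : X} {a f : K} (ha : a ≠ 0) (hA : InR z a) (hr : InR z (f - a⁻¹)) :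
    UnitR z a ∨ UnitR z (a * f) := by
  obtain ⟨α, hα⟩ := hA
  obtain ⟨β, hβ⟩ := hr
  by_cases hu : IsUnit α
  · exact Or.inl (hα ▸ unitR_of_isUnit hu)
  · right
    have h1 : IsUnit (1 + α * β) := by
      have : α * β ∈ nonunits (X.presheaf.stalk z) := fun h => hu (isUnit_of_mul_isUnit_left h)
      by_contra h
      refine IsLocalRing.nonunits_add h (b := -(α * β)) ?_ ?_
      · exact fun h' => this (by simpa using h'.neg)
      · simp
    have := unitR_of_isUnit h1
    rw [map_add, map_one, map_mul, hα, hβ, mul_sub, mul_inv_cancel₀ ha] at this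
    simpa using this

lemma exists_unit_nhd_generic {c : K} (hc : c ≠ 0) : ∃ V : X.Opens, η ∈ V ∧ ∀ y ∈ V, UnitR y c := by
  obtain ⟨W, -, r, hW, hr, hu⟩ := exists_isUnit_germ_eq X c hc
  obtain ⟨w⟩ := hW
  have hη : η ∈ W := eta_mem w.2
  refine ⟨W, hη, fun y hy => ?_⟩
  have hr' : algebraMap (X.presheaf.stalk y) K (X.presheaf.germ W y hy r) = c := by
    have : Nonempty W := ⟨w⟩
    rw [X.algebraMap_germ_eq_germToFunctionField hy r]; exact hr
  exact hr' ▸ unitR_of_isUnit (hu.map (X.presheaf.germ W y hy).hom)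

/-- A neighbourhood on which the equation is a unit. -/
lemma exists_nhd_unit {z : X} (h : UnitR z (D.A z)) :
    ∃ V : X.Opens, z ∈ V ∧ ∀ y ∈ V, UnitR y (D.A y) := by
  obtain ⟨U, hzU, hU⟩ := D.loc z
  obtain ⟨V, hzV, hV⟩ := h.spread
  refine ⟨U ⊓ V, ⟨hzU, hzV⟩, fun y hy => ?_⟩
  have h1 : UnitR y (D.A y / D.A z) := ⟨(hU y hy.1).2, by rw [inv_div]; exact (hU y hy.1).1⟩
  have := h1.mul (hV y hy.2)
  rwa [div_mul_cancel₀ _ (D.ne z)] at this

lemma exists_nhd_unit_mul {z : X} {f : K} (h : UnitR z (D.A z * f)) :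
    ∃ V : X.Opens, z ∈ V ∧ ∀ y ∈ V, UnitR y (D.A y * f) := by
  obtain ⟨U, hzU, hU⟩ := D.loc z
  obtain ⟨V, hzV, hV⟩ := h.spread
  refine ⟨U ⊓ V, ⟨hzU, hzV⟩, fun y hy => ?_⟩
  have h1 : UnitR y (D.A y / D.A z) := ⟨(hU y hy.1).2, by rw [inv_div]; exact (hU y hy.1).1⟩
  have := h1.mul (hV y hy.2)
  rwa [← mul_assoc, div_mul_cancel₀ _ (D.ne z)] at this

variable (D) in
theorem isCoh_mod (n : ℕ) : Coh.IsCoh (mod D n) :=
  have h := H23.PullPush.isFinLocFree_of_isInvertible (isInvertible_mod D n)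
  ⟨QCoh.isQCoh_of_isFinLocFree h, QCoh.isFT_of_isFP (QCoh.isFP_of_isFinLocFree h)⟩

/-- Surjectivity of multiplication over an open on which everything is a unit. -/
lemma mul_app_surjective {c : K} {i j : ℕ} (h : Adm D c i j) (hc : c ≠ 0) {W : X.Opens}
    (hW : ∀ y ∈ W, UnitR y (D.A y) ∧ UnitR y c) : Function.Surjective ((mul h).app W) := by
  intro m
  rcases Set.eq_empty_or_nonempty (W : Set X) with h0 | ⟨p, hp⟩
  · exact ⟨0, ext_v fun {y} hy => absurd (show y ∈ (W : Set X) from hy) (by rw [h0]; exact Set.notMem_empty y)⟩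
  obtain ⟨t, ht⟩ := exists_v (D := D) (n := i) hp (c := v D hp m * c⁻¹) fun z hz => by
    have hm : InR z (D.A z ^ j * v D hp m) := v_mem hz m
    have := ((hm.mul ((hW z hz).1.2.pow j)).mul ((D.inR z).pow i)).mul (hW z hz).2.2
    convert this using 1
    have := D.ne z
    rw [inv_pow]
    field_simp
  refine ⟨t, ext_v fun {y} hy => ?_⟩
  rw [v_mul, ht hy, mul_assoc, inv_mul_cancel₀ hc, mul_one]
  rfl

/-- The cokernel of multiplication by a nonzero function is supported on closed points. -/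
theorem closed_support_cokernel_mul [CompactSpace X] (hdim : topologicalKrullDim X = 1) {c : K} {i j : ℕ}
    (h : Adm D c i j) (hc : c ≠ 0) :
    ∀ x ∈ CohB1.support (cokernel (mul h)), IsClosed ({x} : Set X) := by
  intro x hx
  by_contra hne
  obtain rfl := eq_genericPoint_of_not_isClosed hdim hne
  obtain ⟨V₁, hη₁, hV₁⟩ := exists_unit_nhd_generic hc
  obtain ⟨V₀, hη₀, hV₀⟩ := exists_unit_nhd_generic (D.ne η)
  obtain ⟨V₂, hη₂, hV₂⟩ := exists_nhd_unit (D := D) (hV₀ η hη₀)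
  refine hx (subsingleton_of_forall_eq 0 fun m => ?_)
  obtain ⟨W, hηW, w, rfl⟩ := (cokernel (mul h)).presheaf.germ_exist m
  obtain ⟨V, iV, hηV, t, ht⟩ := QCoh.exists_local_preimage (cokernel.π (mul h)) w hηW
  have hle : V ⊓ V₁ ⊓ V₂ ≤ V := inf_le_left.trans inf_le_left
  obtain ⟨s, hs⟩ := mul_app_surjective h hc (W := V ⊓ V₁ ⊓ V₂)
    (fun y hy => ⟨hV₂ y hy.2, hV₁ y hy.1.2⟩) (res (mod D j) hle t)
  have hzero : (cokernel (mul h)).presheaf.map (homOfLE (hle.trans iV)).op w = 0 := by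
    have h1 : res (cokernel (mul h)) hle (res (cokernel (mul h)) iV w) = 0 := by
      rw [show res (cokernel (mul h)) iV w = (cokernel.π (mul h)).app V t from ht.symm, ← app_res, ← hs]
      exact QCoh.cokernel_π_app_app _
    rwa [res_res] at h1
  rw [← (cokernel (mul h)).presheaf.germ_res_apply (homOfLE (hle.trans iV)) η ⟨⟨hηV, hη₁⟩, hη₂⟩ w, hzero, map_zero]

section Over

variable (k : Type u) [Field k] [X.Over (Spec (CommRingCat.of k))]

/-- Constants as rational functions. -/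
noncomputable def cK : k →+* K :=
  (gη (W := ⊤) (x := η) trivial).comp (Coh.toGlobal (X ↘ Spec (CommRingCat.of k)))

lemma inR_cK (z : X) (a : k) : InR z (cK (X := X) k a) :=
  inR_gη (W := ⊤) (x := z) trivial (Coh.toGlobal (X ↘ Spec (CommRingCat.of k)) a)

lemma Adm.cK_mul {c : K} {i j : ℕ} (h : Adm D c i j) (a : k) : Adm D (cK k a * c) i j := fun z e he => by
  rw [show D.A z ^ j * (e * (cK k a * c)) = cK k a * (D.A z ^ j * (e * c)) by ring]
  exact (inR_cK k z a).mul (h z e he)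

theorem mapLin_cK_mul {c : K} {i j : ℕ} (h : Adm D c i j) (a : k) (n : ℕ) :
    mapLin k (mul (h.cK_mul k a)) n = a • mapLin k (mul h) n := by
  refine LinearMap.ext fun x => ?_
  show Sheaf.H.map ((QCoh.toAbFunctor X).map (mul (h.cK_mul k a))) n x =
    Sheaf.H.map (Coh.smulAb (mod D j) (Coh.toGlobal (X ↘ Spec (CommRingCat.of k)) a)) n
      (Sheaf.H.map ((QCoh.toAbFunctor X).map (mul h)) n x)
  refine (PnCoh.Finite.map_map (Y := X.toPresheafedSpace.carrier) ?_ n x).symm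
  ext W m
  obtain ⟨W⟩ := W
  refine (?_ : (show Γ(mod D j, W) from
      (show Γ(X, W) from Coh.resTop X (op W) (Coh.toGlobal (X ↘ Spec (CommRingCat.of k)) a)) •
        (mul h).app W (show Γ(mod D i, W) from m)) = (mul (h.cK_mul k a)).app W (show Γ(mod D i, W) from m))
  refine ext_v fun {y} hy => ?_
  rw [v_smul, v_mul, v_mul]
  have e : gη hy (show Γ(X, W) from Coh.resTop X (op W) (Coh.toGlobal (X ↘ Spec (CommRingCat.of k)) a)) =
      cK k a := gη_res (W := ⊤) le_top hy (y := η) trivial _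
  rw [e]; ring

theorem mapLin_mul_comp {c d : K} {i j l : ℕ} (h : Adm D c i j) (h' : Adm D d j l) (n : ℕ) :
    mapLin k (mul (h.comp h')) n = mapLin k (mul h') n ∘ₗ mapLin k (mul h) n := by
  refine LinearMap.ext fun x => ?_
  show Sheaf.H.map _ n x = Sheaf.H.map _ n (Sheaf.H.map _ n x)
  exact (PnCoh.Finite.map_map (Y := X.toPresheafedSpace.carrier)
    (((QCoh.toAbFunctor X).map_comp (mul h) (mul h')).symm.trans (by rw [mul_comp])) n x).symm

theorem mapLin_mul_add {c d : K} {i j : ℕ} (h : Adm D c i j) (h' : Adm D d i j) (h'' : Adm D (c + d) i j) (n : ℕ) :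
    mapLin k (mul h'') n = mapLin k (mul h) n + mapLin k (mul h') n := by
  refine LinearMap.ext fun x => ?_
  show Sheaf.H.map ((QCoh.toAbFunctor X).map (mul h'')) n x = _
  rw [mul_add_mul h h' h'', Functor.map_add, Sheaf.H.map_add_apply]
  rfl

theorem mapLin_mul_zero {i j : ℕ} (h : Adm D (0 : K) i j) (n : ℕ) : mapLin k (mul h) n = 0 := by
  have h2 : Adm D ((0 : K) + 0) i j := by rwa [add_zero]
  have := mapLin_mul_add k h h h2 n
  have e : mapLin k (mul h2) n = mapLin k (mul h) n := by congr 2; exact add_zero _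
  rw [e] at this
  simpa using this

/-- The rational function of a global cohomology class. -/
noncomputable def v0 {n : ℕ} : Coh.HH X (mod D n) 0 →+ K where
  toFun t := v D (W := ⊤) (x := η) trivial (show Γ(mod D n, ⊤) from Sheaf.H.equiv₀ (Coh.toAb (mod D n)) isTerminalTop t)
  map_zero' := by
    show val _ ((sub D n).ι.app ⊤ (show Γ(mod D n, ⊤) from Sheaf.H.equiv₀ (Coh.toAb (mod D n)) isTerminalTop 0)) = 0
    rw [show (show Γ(mod D n, ⊤) from Sheaf.H.equiv₀ (Coh.toAb (mod D n)) isTerminalTop 0) = 0 from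
      map_zero (Sheaf.H.equiv₀ (Coh.toAb (mod D n)) isTerminalTop), map_zero, map_zero]
  map_add' a b := by
    rw [← v_add]
    exact congrArg _ (map_add (Sheaf.H.equiv₀ (Coh.toAb (mod D n)) isTerminalTop) a b)

lemma v0_mem {n : ℕ} (t : Coh.HH X (mod D n) 0) (z : X) : InR z (D.A z ^ n * v0 t) :=
  v_mem (W := ⊤) (z := z) trivial _

lemma v0_injective {n : ℕ} : Function.Injective (v0 (D := D) (n := n)) := fun a b h => by
  apply (Sheaf.H.equiv₀ (Coh.toAb (mod D n)) isTerminalTop).injective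
  exact ext_v fun {y} hy => h

lemma exists_v0 {n : ℕ} {c : K} (hc : ∀ z, InR z (D.A z ^ n * c)) : ∃ t : Coh.HH X (mod D n) 0, v0 t = c := by
  obtain ⟨m, hm⟩ := exists_v (D := D) (n := n) (W := ⊤) (x := η) trivial fun z _ => hc z
  refine ⟨(Sheaf.H.equiv₀ (Coh.toAb (mod D n)) isTerminalTop).symm m, ?_⟩
  show v D (W := ⊤) (x := η) trivial (show Γ(mod D n, ⊤) from Sheaf.H.equiv₀ (Coh.toAb (mod D n)) isTerminalTop _) = c
  rw [AddEquiv.apply_symm_apply]
  exact hm (y := η) trivial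

lemma v0_mul {c : K} {i j : ℕ} (h : Adm D c i j) (t : Coh.HH X (mod D i) 0) :
    v0 (mapLin k (mul h) 0 t) = v0 t * c := by
  refine Eq.trans (congrArg (v D (W := ⊤) (x := η) trivial) ?_) (v_mul h (W := ⊤) (x := η) trivial _)
  exact (Sheaf.H.equiv₀_naturality isTerminalTop ((QCoh.toAbFunctor X).map (mul h)) t).symm

lemma v0_smul {n : ℕ} (a : k) (t : Coh.HH X (mod D n) 0) : v0 (a • t) = cK k a * v0 t := by
  refine (congrArg (v D (W := ⊤) (x := η) trivial) (h0Equiv_smul (mod D n) a t)).trans ?_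
  rw [v_smul]
  exact congrArg (· * _) (gη_res (W := ⊤) (W' := ⊤) le_top (x := η) (y := η) trivial trivial _)

end Over

end Groth.Agent.CurveCohLib.Polar
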