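import Groth.Agent.CurveCohLib.PointTwist
import Groth.Agent.Lib.CurveDualPrep

/-! Normalized and indecomposable bundles of rank two on a curve. -/

noncomputable section

set_option linter.style.haveILetI false
set_option linter.unusedSectionVars false
set_option backward.isDefEq.respectTransparency false
set_option backward.isDefEq.respectTransparency.types false

universe u

open CategoryTheory CategoryTheory.Limits AlgebraicGeometry TopologicalSpace Opposite
open Groth.Agent.PnCoh.Finite (mapLin)

namespace Groth.Agent.CurveCohLib.RankTwo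

open Groth.Agent.CurveBundle Groth.Agent.CurveSlope Groth.Agent.CurveStable

variable {X : Scheme.{u}} (k : Type u) [Field k] [IsAlgClosed k] [X.Over (Spec (CommRingCat.of k))]
  [IsIntegral X] [IsProper (X ↘ Spec (CommRingCat.of k))] [Smooth (X ↘ Spec (CommRingCat.of k))]

/-- A module with no section receives no map from the structure sheaf. -/
theorem hom_eq_zero {P : X.Modules} [Subsingleton (Coh.HH X P 0)] (φ : Coh.structureModule X ⟶ P) : φ = 0 := by
  refine CurveRR.hom_ext_one ?_
  refine (AddEquiv.apply_symm_apply (Sheaf.H.equiv₀ (Coh.toAb P) isTerminalTop) _).symm.trans ?_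
  rw [Subsingleton.elim ((Sheaf.H.equiv₀ (Coh.toAb P) isTerminalTop).symm _) 0]
  exact map_zero _

/-- Every line subbundle of a normalized bundle has nonpositive degree. -/
theorem deg_le_zero (hdim : topologicalKrullDim X = 1) {E L : X.Modules} (hL : PicF.IsInvertible L)
    (i : L ⟶ E) [Mono i]
    (hneg : ∀ M : X.Modules, PicF.IsInvertible M → Curv2.deg k X M 1 < 0 →
      Subsingleton (Coh.HH X (CohB1.tensorMod E M) 0)) :
    Curv2.deg k X L 1 ≤ 0 := by
  by_contra hd
  obtain ⟨D, hD, hdD, ⟨e⟩⟩ := CurveDuality.exists_inverse_deg k hdim hL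
  haveI : Subsingleton (Coh.HH X ((DCoh.tensorBi.obj E).obj D) 0) := hneg D hD (by omega)
  haveI : Mono ((DCoh.tensorBi.obj D).map i) := by
    have hDf := isFinLocFree_of_rank (InvEnd.isFinLocFreeOfRank_one hD)
    exact (CurveTensor.shortExact_tensor hDf _ _ _ (shortExact_cokernel_of_mono i)).mono_f
  let φ : Coh.structureModule X ⟶ (DCoh.tensorBi.obj E).obj D :=
    (e.inv ≫ (CurveTensor.commIso L D).hom) ≫ (DCoh.tensorBi.obj D).map i ≫ (CurveTensor.commIso D E).hom
  haveI : Mono φ := inferInstance
  have h2 : 𝟙 (Coh.structureModule X) = 0 := by rw [← cancel_mono φ, Category.id_comp, hom_eq_zero φ, comp_zero]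
  have h3 := rk_eq (InvEnd.isFinLocFreeOfRank_one (CurveDeg.isInvertible_structureModule (X := X)))
  rw [rk_eq_zero_of_isZero ((IsZero.iff_id_eq_zero _).2 h2)] at h3
  exact zero_ne_one h3

theorem dg_eq_deg {L : X.Modules} (hL : PicF.IsInvertible L) : dg k L = Curv2.deg k X L 1 :=
  (deg_eq_dg k (InvEnd.isFinLocFreeOfRank_one hL)).symm

/-- A nonzero section of a normalized rank two bundle has invertible cokernel, of degree `deg E`. -/
theorem cokernel_section (hdim : topologicalKrullDim X = 1) {E : X.Modules}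
    (hE : FlatMod.IsFinLocFreeOfRank 2 E)
    (hneg : ∀ M : X.Modules, PicF.IsInvertible M → Curv2.deg k X M 1 < 0 →
      Subsingleton (Coh.HH X (CohB1.tensorMod E M) 0))
    (s : Coh.structureModule X ⟶ E) (hs : s ≠ 0) :
    Mono s ∧ PicF.IsInvertible (cokernel s) ∧ Curv2.deg k X (cokernel s) 1 = Curv2.deg k X E 2 := by
  haveI := CurveCohLib.isNoetherian_of_proper (k := k) (X := X)
  have hEf := isFinLocFree_of_rank hE
  have hEc := coh_of_free k hEf
  have hO1 := InvEnd.isFinLocFreeOfRank_one (CurveDeg.isInvertible_structureModule (X := X))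
  have hOc : Coh.IsCoh (Coh.structureModule X) := QCoh.isCoh_structureModule'
  haveI := CurveSection.mono_of_ne_zero k hdim.le (isFinLocFree_of_rank hO1) (rk_eq hO1) hEf s hs
  have hQc : Coh.IsCoh (cokernel s) := QCoh.isCoh_cokernel hOc.1 hEc s
  have hS := shortExact_cokernel_of_mono s
  have hQ := isFinLocFree_of_max k hdim.le s (cokernel.π s) _ hS hOc hEf hQc fun G g hg hG hrG => by
    haveI := hg
    rw [rk_eq hO1] at hrG
    have hG1 : PicF.IsInvertible G := CurveDuality.isInvertible_of_rank_one (hrG ▸ isFinLocFreeOfRank_rk hG)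
    rw [dg_eq_deg k hG1, dg_eq_deg k CurveDeg.isInvertible_structureModule, CurveDeg.deg_structureModule]
    exact deg_le_zero k hdim hG1 g hneg
  have hr := rk_add_coh k _ _ _ hS hEc
  rw [rk_eq hE, rk_eq hO1] at hr
  have hQi : PicF.IsInvertible (cokernel s) :=
    CurveDuality.isInvertible_of_rank_one ((show rk (cokernel s) = 1 by omega) ▸ isFinLocFreeOfRank_rk hQ)
  refine ⟨inferInstance, hQi, ?_⟩
  have hd := dg_add k _ _ _ hS hOc hEc hQc
  rw [dg_eq_deg k hQi, dg_eq_deg k CurveDeg.isInvertible_structureModule, CurveDeg.deg_structureModule,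
    ← deg_eq_dg k hE] at hd
  omega

/-- An extension of invertible modules whose degrees differ by at least `2g - 1` is a direct sum. -/
theorem nonempty_iso_biprod (hdim : topologicalKrullDim X = 1) {A E : X.Modules}
    (hA : PicF.IsInvertible A) (i : A ⟶ E) [Mono i] (hQ : PicF.IsInvertible (cokernel i))
    (h : 2 * (Curv2.genus k X : ℤ) - 1 ≤ Curv2.deg k X A 1 - Curv2.deg k X (cokernel i) 1) :
    Nonempty (E ≅ A ⊞ cokernel i) := by
  have hS := shortExact_cokernel_of_mono i
  haveI := CurveSpecial.isSplitEpi_of_deg k hdim hS hA hQ h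
  exact ⟨(ShortComplex.Splitting.ofExactOfSection _ hS.exact (section_ (cokernel.π i))
    (IsSplitEpi.id _) inferInstance).isoBinaryBiproduct⟩

/-- A bundle with `χ > 0` after a twist has a section there. -/
theorem exists_section_of_euler (hdim : topologicalKrullDim X = 1) {M : X.Modules} (hM : Coh.IsCoh M)
    (h : 0 < Curv2.euler k X M) : Nontrivial (Coh.HH X M 0) := by
  haveI := CurveCohLib.isNoetherian_of_proper (k := k) (X := X)
  haveI := CurveCohLib.finite_HH (k := k) hM 0
  have := euler_le_h0 k hdim.le hM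
  exact Module.nontrivial_of_finrank_pos (R := k) (by omega)

/-- Twisting a rank two bundle. -/
theorem euler_twist_two (hdim : topologicalKrullDim X = 1) {E M : X.Modules}
    (hE : FlatMod.IsFinLocFreeOfRank 2 E) (hM : PicF.IsInvertible M) :
    Curv2.euler k X ((DCoh.tensorBi.obj E).obj M) =
      Curv2.deg k X E 2 + 2 * (Curv2.deg k X M 1 + (1 - (Curv2.genus k X : ℤ))) := by
  haveI := CurveCohLib.isNoetherian_of_proper (k := k) (X := X)
  rw [CurveTensor.euler_tensor k hdim hE (CurveDeg.isCoh_of_isInvertible hM),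
    rk_eq (InvEnd.isFinLocFreeOfRank_one hM), ← CurveRR.euler_structureModule k hdim.le]
  unfold Curv2.deg
  push_cast
  ring

/-- A line bundle of each degree. -/
theorem exists_deg_eq (hdim : topologicalKrullDim X = 1) (n : ℤ) :
    ∃ L : X.Modules, PicF.IsInvertible L ∧ Curv2.deg k X L 1 = n := by
  haveI := CurveCohLib.isNoetherian_of_proper (k := k) (X := X)
  obtain ⟨S, hS, hcl⟩ := CurveSection.exists_closed_finset k (X := X) hdim 1
  obtain ⟨p, hp⟩ := Finset.card_pos.1 (show 0 < S.card by omega)
  have hI := CurvePoint.isInvertible_ptMod p (hcl p hp) k hdim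
  have hdI := CurvePoint.deg_ptMod p (hcl p hp) k
  obtain ⟨J, hJ, hdJ, -⟩ := CurveDuality.exists_inverse_deg k hdim hI
  induction n with
  | zero => exact ⟨_, CurveDeg.isInvertible_structureModule, CurveDeg.deg_structureModule k⟩
  | succ n ih =>
    obtain ⟨L, hL, hd⟩ := ih
    exact ⟨_, InvX.isInvertible_tensorMod hL hJ, by
      rw [show Curv2.deg k X (CohB1.tensorMod L J) 1 = _ from CurveRR.deg_tensor k hdim hL hJ, hd, hdJ, hdI]; ring⟩
  | pred n ih =>
    obtain ⟨L, hL, hd⟩ := ih
    exact ⟨_, InvX.isInvertible_tensorMod hL hI, by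
      rw [show Curv2.deg k X (CohB1.tensorMod L (CurvePoint.ptMod p (hcl p hp))) 1 = _ from
        CurveRR.deg_tensor k hdim hL hI, hd, hdI]; ring⟩

/-- Normalized bundles have degree at most `2g`. -/
theorem deg_le_two_genus (hdim : topologicalKrullDim X = 1) {E : X.Modules}
    (hE : FlatMod.IsFinLocFreeOfRank 2 E)
    (hneg : ∀ M : X.Modules, PicF.IsInvertible M → Curv2.deg k X M 1 < 0 →
      Subsingleton (Coh.HH X (CohB1.tensorMod E M) 0)) :
    Curv2.deg k X E 2 ≤ 2 * (Curv2.genus k X : ℤ) := by
  haveI := CurveCohLib.isNoetherian_of_proper (k := k) (X := X)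
  by_contra hlt
  obtain ⟨M, hM, hdM⟩ := exists_deg_eq k (X := X) hdim (-1)
  haveI : Subsingleton (Coh.HH X ((DCoh.tensorBi.obj E).obj M) 0) := hneg M hM (by omega)
  haveI := exists_section_of_euler k hdim
    (CurveTensor.isCoh_tensor (isFinLocFree_of_rank hE) (CurveDeg.isCoh_of_isInvertible hM))
    (by rw [euler_twist_two k hdim hE hM, hdM]; omega)
  exact false_of_nontrivial_of_subsingleton (Coh.HH X ((DCoh.tensorBi.obj E).obj M) 0)

end Groth.Agent.CurveCohLib.RankTwo
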